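import Groth.Agent.BunMod.K367.SumL
import Groth.Agent.BunMod.K757.DetM0
import Groth.Agent.JacVar.K532.ThetaIdeal
import Groth.Agent.AbVar.K518.Phi

/-!
# The restriction of the theta line bundle to the orbit of a sum of line bundles

`x i : Pt J`, `EJ x = (⊕ P_{x i}) ⊗ P` the family of the twists of `⊕ P_{x i}`, over `J`.

* `thetaIdeal_EJ`: its theta ideal is the product of the translates of the ideal of the theta divisor;
* `pl_mk_eq`: if the ideal `I` of `M` pulls back to the theta ideal of `EJ x` and `∏ x i = 1` then the inverse of `I`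
  pulls back to the power of the theta line bundle of `J`.
-/

set_option autoImplicit false
universe u

open CategoryTheory CategoryTheory.Limits AlgebraicGeometry MonoidalCategory CartesianMonoidalCategory MonObj

namespace K367.B1Core

open Groth.Agent.Grpsch.PicGrp Groth.Agent.Grpsch.Cube K518.Phi K140.BM K757.TwistUSS K367.SumL
  Groth.Agent.Fga.JacFactor

section gen

variable {k : Type u} [Field k] [IsAlgClosed k] {J : Over (Spec (CommRingCat.of k))} [GrpObj J]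
  [IsCommMonObj J] [IsProper J.hom] [GeometricallyIntegral J.hom]

omit [IsAlgClosed k] in
/-- Theorem of the square for several points with product one. -/
theorem prod_pl_tr {n : ℕ} (x : Fin n → Pt J) (h : ∏ i, x i = 1) (c : Pic J.left) :
    ∏ i, pl (tr (x i)) c = c ^ n := by
  have h1 : ∀ i, pl (tr (x i)) c = phiHom c (x i) * c := fun i => pl_tr c (x i)
  rw [Finset.prod_congr rfl fun i _ => h1 i, Finset.prod_mul_distrib, ← map_prod, h, map_one, _root_.one_mul,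
    Finset.prod_const, Finset.card_univ, Fintype.card_fin]

omit [IsAlgClosed k] [IsCommMonObj J] [IsProper J.hom] [GeometricallyIntegral J.hom] in
theorem isIso_tr (x : Pt J) : IsIso (tr x).left := by
  have h1 : tr x ≫ tr x⁻¹ = 𝟙 J := by rw [tr_comp_tr, mul_inv_cancel, tr_one]
  have h2 : tr x⁻¹ ≫ tr x = 𝟙 J := by rw [tr_comp_tr, inv_mul_cancel, tr_one]
  exact ⟨(tr x⁻¹).left, congrArg (fun q => q.left) h1, congrArg (fun q => q.left) h2⟩

omit [IsAlgClosed k] [IsCommMonObj J] [IsProper J.hom] [GeometricallyIntegral J.hom] in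
theorem isEff_tr {I : J.left.IdealSheafData} (hI : BlowUp.IsEffCartierIdeal I) (x : Pt J) :
    BlowUp.IsEffCartierIdeal (I.comap (tr x).left) :=
  haveI := isIso_tr x
  Groth.Agent.Divis.EffCartier.isEff_comap_flat hI _

/-- The class of an inverse of an ideal pulling back to the product of the translates. -/
theorem pl_mk_eq {M : Over (Spec (CommRingCat.of k))} {n : ℕ} (x : Fin n → Pt J) (h : ∏ i, x i = 1)
    {I : M.left.IdealSheafData} {Θ : M.left.Modules} (hΘ : PicF.IsInvertible Θ)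
    (hI : ClSub.IsInverseOf Θ (ClSub.idealMod I)) {IJ : J.left.IdealSheafData} {ΘJ : J.left.Modules}
    (hΘJ : PicF.IsInvertible ΘJ) (hIJ : ClSub.IsInverseOf ΘJ (ClSub.idealMod IJ)) (c : J ⟶ M)
    (hc : I.comap c.left = ∏ i, IJ.comap (tr (x i)).left) : pl c (mk Θ hΘ) = mk ΘJ hΘJ ^ n := by
  obtain ⟨e⟩ := id hI
  have hi := Groth.Agent.Fga.IntAdd.isInvertible_of_tensor e
  have hE := Groth.Agent.Dix.IdealModCartier.isEffCartierIdeal_of_isInvertible hi
  obtain ⟨e'⟩ := id hIJ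
  have hi' := Groth.Agent.Fga.IntAdd.isInvertible_of_tensor e'
  have hE' := Groth.Agent.Dix.IdealModCartier.isEffCartierIdeal_of_isInvertible hi'
  have h1 : mk Θ hΘ = (dcl I hE)⁻¹ := Groth.Agent.Models.H65.PicDeg.mk_of_isInverseOf hΘ hi hI
  have h2 : mk ΘJ hΘJ = (dcl IJ hE')⁻¹ := Groth.Agent.Models.H65.PicDeg.mk_of_isInverseOf hΘJ hi' hIJ
  obtain ⟨h3, h4⟩ := dcl_prod (fun i => IJ.comap (tr (x i)).left) fun i => isEff_tr hE' (x i)
  have h5 : BlowUp.IsEffCartierIdeal (I.comap c.left) := by rw [hc]; exact h3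
  have h6 : pl c (dcl I hE) = dcl IJ hE' ^ n := by
    rw [← prod_pl_tr x h, Groth.Agent.Grpsch.Cube.pl, K532.ThetaIdeal.pull_dcl c.left hE h5, dcl_congr hc h5, h4]
    exact Finset.prod_congr rfl fun i _ => (K532.ThetaIdeal.pull_dcl (tr (x i)).left hE' (isEff_tr hE' (x i))).symm
  rw [h1, h2, map_inv, h6, inv_pow]

end gen

section fam

variable {k : Type u} [Field k] {X : Scheme.{u}} [X.Over (Spec (CommRingCat.of k))]
  [IsProper (X ↘ Spec (CommRingCat.of k))] [Smooth (X ↘ Spec (CommRingCat.of k))]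
  [GeometricallyConnected (X ↘ Spec (CommRingCat.of k))] (hdim : topologicalKrullDim X = 1)
  {J : Over (B0 k)} [GrpObj J] {ψ : (ModFun.PicDeg (st k X) 0).Hom ⊤ J} (FJ : FineJ (st k X) J ψ)

/-- The sum of the line bundles of the points. -/
noncomputable def E0 {n : ℕ} (x : Fin (n + 1) → Pt J) : (PicF.XT (st k X) (𝟙_ (Over (B0 k)))).Modules :=
  sumL n fun i => FJ.at' (x i)

/-- The family of the twists of a bundle `E`. -/
noncomputable def TwJ (E : (PicF.XT (st k X) (𝟙_ (Over (B0 k)))).Modules) : (PicF.XT (st k X) J).Modules :=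
  CohB1.tensorMod (pl k X (toUnit J) E) (FJ.at' (𝟙 J))

include hdim in
theorem ussOK_E0 {n : ℕ} (x : Fin (n + 1) → Pt J) :
    BunMod.ussOK (st k X) (n + 1) 0 (𝟙_ (Over (B0 k))) (E0 FJ x) :=
  ussOK_sumL hdim n fun i => FJ.ok_at (x i)

include hdim in
theorem ussOK_TwJ {r : ℕ} {E : (PicF.XT (st k X) (𝟙_ (Over (B0 k)))).Modules}
    (hE : BunMod.ussOK (st k X) r 0 (𝟙_ (Over (B0 k))) E) : BunMod.ussOK (st k X) r 0 J (TwJ FJ E) :=
  FJ.ussOK_at hdim (𝟙 J) (K757.Geo.ussOK_pull (toUnit J) hE)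

omit [IsProper (X ↘ Spec (CommRingCat.of k))] [Smooth (X ↘ Spec (CommRingCat.of k))]
  [GeometricallyConnected (X ↘ Spec (CommRingCat.of k))] in
theorem nonempty_TwJ_E0 {n : ℕ} (x : Fin (n + 1) → Pt J) :
    Nonempty (TwJ FJ (E0 FJ x) ≅ sumL n fun i => CohB1.tensorMod (FJ.at' (toUnit J ≫ x i)) (FJ.at' (𝟙 J))) := by
  obtain ⟨e1⟩ := sumL_pull (PicF.XTmap (st k X) (toUnit J)) n fun i => FJ.at' (x i)
  obtain ⟨e2⟩ := sumL_iso n fun i => K757.Fam.pl_comp (st k X) (x i) (toUnit J) FJ.P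
  obtain ⟨e3⟩ := K757.Fam.tens_congr ⟨e1 ≪≫ e2.symm⟩ ⟨Iso.refl (FJ.at' (𝟙 J))⟩
  obtain ⟨e4⟩ := sumL_tensor n (fun i => FJ.at' (toUnit J ≫ x i)) (FJ.at' (𝟙 J))
  exact ⟨e3 ≪≫ e4⟩

variable {N : X.Modules}

/-- **R1**: the theta ideals of families of line bundles are the pull-backs of the ideal of the theta locus. -/
def RankOne (ψ : (ModFun.PicDeg (st k X) 0).Hom ⊤ J) (N : X.Modules) : Prop :=
  ∀ (T : Over (B0 k)) (L : (PicF.XT (st k X) T).Modules) (hL : (ModFun.PicDeg (st k X) 0).ok T L),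
    (Scheme.IdealSheafData.vanishingIdeal ⟨Jac.thetaLocus (st k X) 0 ψ N, isClosed_closure⟩).comap
      (ψ.app T L trivial hL).left = thetaIdeal k N T L

include hdim in
/-- The theta ideal of the family of the twists of a sum of line bundles. -/
theorem thetaIdeal_TwJ [IsCommMonObj J] (hN : FlatMod.IsFinLocFree N) (hR : RankOne ψ N) {n : ℕ}
    (x : Fin (n + 1) → Pt J) :
    thetaIdeal k N J (TwJ FJ (E0 FJ x)) = ∏ i, (Scheme.IdealSheafData.vanishingIdeal
      ⟨Jac.thetaLocus (st k X) 0 ψ N, isClosed_closure⟩).comap (tr (x i)).left := by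
  obtain ⟨e⟩ := nonempty_TwJ_E0 FJ x
  have hL : ∀ i, (ModFun.PicDeg (st k X) 0).ok J (CohB1.tensorMod (FJ.at' (toUnit J ≫ x i)) (FJ.at' (𝟙 J))) := by
    intro i
    have h := K757.Geo.picDeg_mul hdim (FJ.ok_at (toUnit J ≫ x i)) (FJ.ok_at (𝟙 J))
    rwa [add_zero] at h
  have h1 : ∀ i, FlatMod.IsFinLocFreeOfRank 1 (CohB1.tensorMod (FJ.at' (toUnit J ≫ x i)) (FJ.at' (𝟙 J))) :=
    fun i => (hL i).1.2
  have h2 : FlatMod.IsFinLocFree (TwJ FJ (E0 FJ x)) :=
    K703.Basic.isFinLocFree_of_rank (ussOK_TwJ hdim FJ (ussOK_E0 hdim FJ x)).1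
  rw [K54.Theta.thetaIdeal_iso hdim.le hN h2 (K703.Basic.isFinLocFree_of_rank (rank_sumL n h1)) e,
    thetaIdeal_sumL hdim.le hN n h1]
  refine Finset.prod_congr rfl fun i _ => ?_
  rw [← hR J _ (hL i), FJ.mul J _ _ _ (FJ.ok_at (toUnit J ≫ x i)) (FJ.ok_at (𝟙 J)) (hL i) ⟨Iso.refl _⟩,
    FJ.psi_at, FJ.psi_at, _root_.mul_comm]

variable [IsAlgClosed k] [IsCommMonObj J] [IsProper J.hom] [GeometricallyIntegral J.hom]

include hdim in
/-- The class of the restriction of the theta line bundle. -/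
theorem pl_mk_eq' (hN : FlatMod.IsFinLocFree N) (hR : RankOne ψ N) {n : ℕ}
    (x : Fin (n + 1) → Pt J) (h : ∏ i, x i = 1) {M : Over (B0 k)}
    {I : M.left.IdealSheafData} {Θ : M.left.Modules} (hΘ : PicF.IsInvertible Θ)
    (hI : ClSub.IsInverseOf Θ (ClSub.idealMod I)) {ΘJ : J.left.Modules}
    (hΘJ : Jac.IsThetaLB (st k X) 0 ψ N ΘJ) (c : J ⟶ M)
    (hc : I.comap c.left = thetaIdeal k N J (TwJ FJ (E0 FJ x))) :
    pl c (mk Θ hΘ) = mk ΘJ hΘJ.1 ^ (n + 1) := by
  rw [thetaIdeal_TwJ hdim FJ hN hR x] at hc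
  exact K367.B1Core.pl_mk_eq x h hΘ hI hΘJ.1 hΘJ.2 c hc

end fam

end K367.B1Core
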