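import Groth.Agent.BunMod.K367.B1Core

/-!
# Sums of line bundles with trivial determinant

`ussDetOK_E0`: `⊕ P_{x i}` is admissible with trivial determinant when `∏ x i = 1`.
-/

set_option autoImplicit false
universe u

open CategoryTheory CategoryTheory.Limits AlgebraicGeometry MonoidalCategory CartesianMonoidalCategory MonObj

namespace K367.B1Det

open Groth.Agent.Grpsch.PicGrp K518.Phi K140.BM K757.TwistUSS K367.SumL K367.B1Core

variable {k : Type u} [Field k] {X : Scheme.{u}} [X.Over (Spec (CommRingCat.of k))]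
  [IsProper (X ↘ Spec (CommRingCat.of k))] [Smooth (X ↘ Spec (CommRingCat.of k))]
  [GeometricallyConnected (X ↘ Spec (CommRingCat.of k))] (hdim : topologicalKrullDim X = 1)
  {J : Over (B0 k)} [GrpObj J] {ψ : (ModFun.PicDeg (st k X) 0).Hom ⊤ J} (FJ : FineJ (st k X) J ψ)
  {T : Over (B0 k)}

omit [IsProper (X ↘ Spec (CommRingCat.of k))] [Smooth (X ↘ Spec (CommRingCat.of k))]
  [GeometricallyConnected (X ↘ Spec (CommRingCat.of k))] [GrpObj J] in
theorem psi_congr {L L' : (PicF.XT (st k X) T).Modules} (hL : (ModFun.PicDeg (st k X) 0).ok T L)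
    (hL' : (ModFun.PicDeg (st k X) 0).ok T L') (e : Nonempty (L ≅ L')) :
    ψ.app T L trivial hL = ψ.app T L' trivial hL' :=
  ψ.resp L L' trivial hL hL' (K757.Fam.r_of_iso (st k X) e)

include FJ hdim in
/-- The classifying morphism of a product. -/
theorem psi_prod {n : ℕ} (x : Fin n → (T ⟶ J)) (L : Fin n → (PicF.XT (st k X) T).Modules)
    (hL : ∀ i, (ModFun.PicDeg (st k X) 0).ok T (L i)) (hLi : ∀ i, PicF.IsInvertible (L i))
    (hx : ∀ i, ψ.app T (L i) trivial (hL i) = x i) {D : (PicF.XT (st k X) T).Modules}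
    (hD : (ModFun.PicDeg (st k X) 0).ok T D) (hDi : PicF.IsInvertible D)
    (h : mk D hDi = ∏ i, mk (L i) (hLi i)) : ψ.app T D trivial hD = (List.ofFn x).prod := by
  induction n generalizing D with
  | zero =>
    rw [Finset.univ_eq_empty, Finset.prod_empty] at h
    rw [psi_congr hD K757.Geo.picDeg_one ((mk_eq_one_iff hDi).1 h), FJ.psi_one, List.ofFn_zero, List.prod_nil]
  | succ n ih =>
    have hd := isInvertible_dual (hLi 0)
    have h1 : (ModFun.PicDeg (st k X) 0).ok T (dual (L 0)) := by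
      have h2 := K757.Geo.picDeg_inv hdim (hL 0) hd (by
        rw [← mk_eq_one_iff (Groth.Agent.Fdesc.LocGen.isInvertible_tensorMod (hLi 0) hd), ← mk_mul_mk (hLi 0) hd, ← inv_mk (hLi 0),
          mul_inv_cancel])
      rwa [neg_zero] at h2
    have h3 : (ModFun.PicDeg (st k X) 0).ok T (CohB1.tensorMod D (dual (L 0))) := by
      have h4 := K757.Geo.picDeg_mul hdim hD h1
      rwa [add_zero] at h4
    have h4 : mk (CohB1.tensorMod D (dual (L 0))) (Groth.Agent.Fdesc.LocGen.isInvertible_tensorMod hDi hd) =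
        ∏ i : Fin n, mk (L i.succ) (hLi i.succ) := by
      rw [← mk_mul_mk hDi hd, ← inv_mk (hLi 0), h, Fin.prod_univ_succ, _root_.mul_comm, ← _root_.mul_assoc, inv_mul_cancel,
        _root_.one_mul]
    have h5 := ih (fun i => x i.succ) (fun i => L i.succ) (fun i => hL i.succ) (fun i => hLi i.succ)
      (fun i => hx i.succ) h3 (Groth.Agent.Fdesc.LocGen.isInvertible_tensorMod hDi hd) h4
    rw [List.ofFn_succ, List.prod_cons, ← h5, ← hx 0]
    refine FJ.mul T _ _ _ (hL 0) h3 hD ?_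
    rw [← mk_eq_iff hDi (Groth.Agent.Fdesc.LocGen.isInvertible_tensorMod (hLi 0)
      (Groth.Agent.Fdesc.LocGen.isInvertible_tensorMod hDi hd)), ← mk_mul_mk (hLi 0)
      (Groth.Agent.Fdesc.LocGen.isInvertible_tensorMod hDi hd), h4, h, Fin.prod_univ_succ]

include hdim in
/-- `⊕ P_{x i}` has trivial determinant when `∏ x i = 1`. -/
theorem detIs_E0 [IsCommMonObj J] {n : ℕ} (x : Fin (n + 1) → Pt J) (h : ∏ i, x i = 1) :
    ModFun.DetIs (st k X) (n + 1) (Coh.structureModule X) (𝟙_ (Over (B0 k))) (E0 FJ x) := by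
  have hE := ussOK_E0 hdim FJ x
  obtain ⟨D, hDi, hD⟩ := K757.DetM0.exists_det hE.1
  have hDok := K757.DetM0.picDeg_det hdim hE hD
  have h1 : ∀ i, FlatMod.IsFinLocFreeOfRank 1 (FJ.at' (x i)) := fun i => (FJ.ok_at (x i)).1.2
  have h2 := mk_of_isExtPow n h1 (fun i => FJ.inv_at (x i)) hD hDi
  have h3 := psi_prod hdim FJ x (fun i => FJ.at' (x i)) (fun i => FJ.ok_at (x i)) (fun i => FJ.inv_at (x i))
    (fun i => FJ.psi_at (x i) (FJ.ok_at (x i))) hDok hDi h2
  rw [List.prod_ofFn, h, ← FJ.psi_one K757.Geo.picDeg_one, FJ.psi_eq_iff hDok K757.Geo.picDeg_one] at h3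
  refine ⟨D, hD, ?_⟩
  exact K757.Fam.r_trans (K757.Fam.r_of_iso _ (K757.Fam.pull_unit _)) (K757.Fam.r_symm h3)

include hdim in
theorem ussDetOK_E0 [IsCommMonObj J] {n : ℕ} (x : Fin (n + 1) → Pt J) (h : ∏ i, x i = 1) :
    BunMod.ussDetOK (st k X) (n + 1) (Coh.structureModule X) (𝟙_ (Over (B0 k))) (E0 FJ x) :=
  ⟨(ussOK_E0 hdim FJ x).1, detIs_E0 hdim FJ x h, (ussOK_E0 hdim FJ x).2.2⟩

end K367.B1Det
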