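import Mathlib.Algebra.BigOperators.Fin
import Mathlib.Data.Set.Finite.Lattice
import Mathlib.Data.Fintype.BigOperators
import Mathlib.Algebra.Group.Basic
import Mathlib.Algebra.Group.Defs
import Mathlib.Data.Set.Finite.Basic

/-!
# Points of an infinite commutative group in general position, with product one
-/

set_option autoImplicit false

namespace K367.Points

variable {G : Type*} [CommGroup G] {F : Set G}

/-- The quotients of distinct members are outside `F`. -/
def Gen (F : Set G) {m : ℕ} (x : Fin m → G) : Prop := ∀ i j, i ≠ j → x i * (x j)⁻¹ ∉ F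

theorem Gen.cons {m : ℕ} {x : Fin m → G} (hx : Gen F x) {y : G} (h1 : ∀ j, y * (x j)⁻¹ ∉ F)
    (h2 : ∀ j, x j * y⁻¹ ∉ F) : Gen F (Fin.cons y x : Fin (m + 1) → G) := by
  intro i j hij
  induction i using Fin.cases with
  | zero =>
    induction j using Fin.cases with
    | zero => exact absurd rfl hij
    | succ j => rw [Fin.cons_zero, Fin.cons_succ]; exact h1 j
  | succ i =>
    induction j using Fin.cases with
    | zero => rw [Fin.cons_zero, Fin.cons_succ]; exact h2 i
    | succ j => rw [Fin.cons_succ, Fin.cons_succ]; exact hx i j fun h => hij (congrArg Fin.succ h)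

omit [CommGroup G] in
theorem finite_pre (hF : F.Finite) (u : G → G) (hu : Function.Injective u) : {y | u y ∈ F}.Finite :=
  hF.preimage hu.injOn

theorem finite_bad (hF : F.Finite) {m : ℕ} (x : Fin m → G) :
    {y | (∃ j, y * (x j)⁻¹ ∈ F) ∨ ∃ j, x j * y⁻¹ ∈ F}.Finite := by
  refine Set.Finite.union ?_ ?_
  · refine (Set.finite_iUnion fun j => finite_pre hF (fun y => y * (x j)⁻¹) (mul_left_injective _)).subset ?_
    rintro y ⟨j, hj⟩
    exact Set.mem_iUnion.2 ⟨j, hj⟩
  · refine (Set.finite_iUnion fun j => finite_pre hF (fun y => x j * y⁻¹)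
      ((mul_right_injective _).comp inv_injective)).subset ?_
    rintro y ⟨j, hj⟩
    exact Set.mem_iUnion.2 ⟨j, hj⟩

theorem exists_gen [Infinite G] (hF : F.Finite) (m : ℕ) : ∃ x : Fin m → G, Gen F x := by
  induction m with
  | zero => exact ⟨fun i => i.elim0, fun i => i.elim0⟩
  | succ m ih =>
    obtain ⟨x, hx⟩ := ih
    obtain ⟨y, hy⟩ := (finite_bad hF x).infinite_compl.nonempty
    rw [Set.mem_compl_iff, Set.mem_ofPred_eq, not_or, not_exists, not_exists] at hy
    exact ⟨_, hx.cons hy.1 hy.2⟩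

/-- Points in general position with product one. -/
theorem exists_gen_prod [Infinite G] (hF : F.Finite) (hsq : ∀ S : Set G, S.Finite → {a : G | a ^ 2 ∈ S}.Finite)
    (n : ℕ) : ∃ x : Fin (n + 1) → G, ∏ i, x i = 1 ∧ Gen F x := by
  obtain _ | m := n
  · exact ⟨fun _ => 1, by simp, fun i j hij => absurd ((Fin.fin_one_eq_zero i).trans (Fin.fin_one_eq_zero j).symm) hij⟩
  · obtain ⟨x, hx⟩ := exists_gen hF m
    obtain ⟨c, hc⟩ : ∃ c, c = ∏ i, x i := ⟨_, rfl⟩
    have f1 := finite_bad hF x
    have f2 : {y | (∃ j, (c * y)⁻¹ * (x j)⁻¹ ∈ F) ∨ ∃ j, x j * ((c * y)⁻¹)⁻¹ ∈ F}.Finite :=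
      (finite_bad hF x).preimage ((inv_injective.comp (mul_right_injective c)).injOn)
    have f3 : {y | (c * y)⁻¹ * y⁻¹ ∈ F}.Finite := by
      have h := hsq {s | (c * s)⁻¹ ∈ F} (finite_pre hF _ (inv_injective.comp (mul_right_injective c)))
      refine h.subset fun y hy => ?_
      rw [Set.mem_ofPred_eq, Set.mem_ofPred_eq]
      rw [Set.mem_ofPred_eq, ← mul_inv] at hy
      rwa [sq, ← mul_assoc]
    have f4 : {y | y * ((c * y)⁻¹)⁻¹ ∈ F}.Finite := by
      have h := hsq {s | c * s ∈ F} (finite_pre hF _ (mul_right_injective c))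
      refine h.subset fun y hy => ?_
      rw [Set.mem_ofPred_eq, Set.mem_ofPred_eq]
      rw [Set.mem_ofPred_eq, inv_inv, mul_left_comm] at hy
      rwa [sq]
    obtain ⟨y, hy⟩ := (f1.union (f2.union (f3.union f4))).infinite_compl.nonempty
    rw [Set.mem_compl_iff, Set.mem_union, Set.mem_union, Set.mem_union, not_or, not_or, not_or] at hy
    obtain ⟨h1, h2, h3, h4⟩ := hy
    rw [Set.mem_ofPred_eq, not_or, not_exists, not_exists] at h1 h2
    refine ⟨Fin.cons (c * y)⁻¹ (Fin.cons y x), ?_, (hx.cons h1.1 h1.2).cons ?_ ?_⟩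
    · rw [Fin.prod_cons, Fin.prod_cons, ← hc, mul_comm y c, inv_mul_cancel]
    · intro j
      induction j using Fin.cases with
      | zero => rw [Fin.cons_zero]; exact h3
      | succ j => rw [Fin.cons_succ]; exact h2.1 j
    · intro j
      induction j using Fin.cases with
      | zero => rw [Fin.cons_zero]; exact h4
      | succ j => rw [Fin.cons_succ]; exact h2.2 j

end K367.Points
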