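import Groth.Agent.BunMod.K367.B1Lite
import Groth.Agent.BunMod.K367.Points
import Groth.Agent.BunMod.K28.SO
import Groth.Agent.BunMod.K596.JB
import Groth.Agent.JacVar.K532.ThetaAmple
import Groth.Agent.AbVar.K506.AmpleNd

/-!
# The restriction of the theta line bundle without density

* `isIrreducible_thetaLocus`, `generic_tr`: the theta divisor of the Jacobian and its translates;
* `comap_eq`: for `E₀` the sum of the line bundles of distinct points with product one, the ideal of the theta locus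
  pulls back along `ξ ↦ E₀ ⊗ ξ` to the theta ideal of that family;
* `exists_slice`: hence `Θ` pulls back to `ΘJ^r`.
-/

set_option autoImplicit false
universe u

open CategoryTheory CategoryTheory.Limits AlgebraicGeometry MonoidalCategory CartesianMonoidalCategory MonObj

namespace K367.B1Final

open K518.Phi K140.BM K757.TwistUSS K367.SumL K367.B1Core K367.Krull K367.TopCore K562.Jump K367.B1Lite K367.B1Det
  Groth.Agent.Grpsch.PicGrp

section tr

variable {k : Type u} [Field k] {J : Over (Spec (CommRingCat.of k))} [GrpObj J]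

theorem tr_left_inv (x : Pt J) (z : J.left) : (tr x).left ((tr x⁻¹).left z) = z := by
  have h2 : tr x⁻¹ ≫ tr x = 𝟙 J := by rw [tr_comp_tr, inv_mul_cancel, tr_one]
  rw [← Scheme.Hom.comp_apply, ← Over.comp_left, h2]
  rfl

theorem tr_inv_left (x : Pt J) (z : J.left) : (tr x⁻¹).left ((tr x).left z) = z := by
  have h1 : tr x ≫ tr x⁻¹ = 𝟙 J := by rw [tr_comp_tr, mul_inv_cancel, tr_one]
  rw [← Scheme.Hom.comp_apply, ← Over.comp_left, h1]
  rfl

/-- The generic point of a translate. -/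
theorem closure_tr (x : Pt J) {ξ : J.left} {S : TopologicalSpace.Closeds J.left}
    (hξ : closure {ξ} = (S : Set J.left)) :
    closure {(tr x⁻¹).left ξ} = (S.preimage (tr x).left.continuous : Set J.left) := by
  ext z
  change z ∈ closure {(tr x⁻¹).left ξ} ↔ (tr x).left z ∈ (S : Set J.left)
  rw [← hξ, ← specializes_iff_mem_closure, ← specializes_iff_mem_closure]
  constructor
  · intro h
    have h1 := h.map (tr x).left.continuous
    rwa [tr_left_inv] at h1
  · intro h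
    have h1 := h.map (tr x⁻¹).left.continuous
    rwa [tr_inv_left] at h1

/-- The ideal of a translate. -/
theorem comap_tr (x : Pt J) (S : TopologicalSpace.Closeds J.left) :
    (Scheme.IdealSheafData.vanishingIdeal S).comap (tr x).left =
      Scheme.IdealSheafData.vanishingIdeal (S.preimage (tr x).left.continuous) := by
  have h1 : tr x ≫ tr x⁻¹ = 𝟙 J := by rw [tr_comp_tr, mul_inv_cancel, tr_one]
  have h2 : tr x⁻¹ ≫ tr x = 𝟙 J := by rw [tr_comp_tr, inv_mul_cancel, tr_one]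
  exact K532.ThetaIdeal.comap_vanishingIdeal_iso (tr x).left (tr x⁻¹).left (congrArg (fun q => q.left) h1)
    (congrArg (fun q => q.left) h2) S

theorem dcl_congr' {Y : Scheme.{u}} {D E : Y.IdealSheafData} (h : D = E) (hD : BlowUp.IsEffCartierIdeal D)
    (hE : BlowUp.IsEffCartierIdeal E) :
    Groth.Agent.Fga.JacFactor.dcl D hD = Groth.Agent.Fga.JacFactor.dcl E hE := by
  subst h
  rfl

theorem pull_inv_eq {Y Z : Scheme.{u}} (f g : Z ⟶ Y) {I : Y.IdealSheafData} {Θ : Y.Modules}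
    (hΘ : PicF.IsInvertible Θ) (hI : ClSub.IsInverseOf Θ (ClSub.idealMod I))
    (hf : BlowUp.IsEffCartierIdeal (I.comap f)) (hg : BlowUp.IsEffCartierIdeal (I.comap g))
    (h : I.comap f = I.comap g) :
    Groth.Agent.Grpsch.PicGrp.pull f (mk Θ hΘ) = Groth.Agent.Grpsch.PicGrp.pull g (mk Θ hΘ) := by
  obtain ⟨e⟩ := id hI
  have hi := Groth.Agent.Fga.IntAdd.isInvertible_of_tensor e
  have hE := Groth.Agent.Dix.IdealModCartier.isEffCartierIdeal_of_isInvertible hi
  have h1 : mk Θ hΘ = (Groth.Agent.Fga.JacFactor.dcl I hE)⁻¹ :=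
    Groth.Agent.Models.H65.PicDeg.mk_of_isInverseOf hΘ hi hI
  have h5 := K532.ThetaIdeal.pull_dcl f hE hf
  have h6 := K532.ThetaIdeal.pull_dcl g hE hg
  have h7 := dcl_congr' h hf hg
  rw [h1, map_inv, map_inv, h5, h6, h7]

/-- Translates of an ideal and of its inverse. -/
theorem pl_tr_eq {I : J.left.IdealSheafData} {Θ : J.left.Modules} (hΘ : PicF.IsInvertible Θ)
    (hI : ClSub.IsInverseOf Θ (ClSub.idealMod I)) {a b : Pt J}
    (h : I.comap (tr a).left = I.comap (tr b).left) :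
    Groth.Agent.Grpsch.Cube.pl (tr a) (mk Θ hΘ) = Groth.Agent.Grpsch.Cube.pl (tr b) (mk Θ hΘ) := by
  obtain ⟨e⟩ := id hI
  have hi := Groth.Agent.Fga.IntAdd.isInvertible_of_tensor e
  have hE := Groth.Agent.Dix.IdealModCartier.isEffCartierIdeal_of_isInvertible hi
  exact pull_inv_eq (tr a).left (tr b).left hΘ hI (isEff_tr hE a) (isEff_tr hE b) h

end tr

theorem ne_bot_of_isEff {Y : Scheme.{u}} [Nonempty Y] {I : Y.IdealSheafData} (hI : BlowUp.IsEffCartierIdeal I) :
    I ≠ ⊥ := by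
  rintro rfl
  obtain ⟨x⟩ := ‹Nonempty Y›
  obtain ⟨U, hU, f, hf, h⟩ := hI x
  have h1 : f = 0 := by
    have h2 : Ideal.span {f} = (⊥ : Ideal Γ(Y, U.1)) := h.symm
    rwa [Ideal.span_singleton_eq_bot] at h2
  have h2 : Nonempty U.1 := ⟨⟨x, hU⟩⟩
  have h3 : Nontrivial Γ(Y, U.1) := Scheme.component_nontrivial Y U.1
  rw [h1] at hf
  exact zero_notMem_nonZeroDivisors hf

theorem infinite_pt {k : Type u} [Field k] [IsAlgClosed k] {J : Over (Spec (CommRingCat.of k))}
    [LocallyOfFiniteType J.hom] [IsIntegral J.left] {ξ : J.left} (h : genericPoint J.left ≠ ξ) : Infinite (Pt J) := by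
  by_contra hinf
  rw [not_infinite_iff_finite] at hinf
  have hJac : JacobsonSpace J.left := LocallyOfFiniteType.jacobsonSpace J.hom
  have hfin : (closedPoints J.left).Finite := by
    refine (Set.finite_range (fun a : Pt J => K506.Transl.pt a)).subset ?_
    intro x hx
    obtain ⟨a, ha⟩ := K506.Transl.exists_point x hx
    exact ⟨a, ha⟩
  have hcl : IsClosed (closedPoints J.left) := by
    rw [← Set.biUnion_of_singleton (closedPoints J.left)]
    exact hfin.isClosed_biUnion fun x hx => hx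
  have h1 : genericPoint J.left ∈ closedPoints J.left := by
    have h2 := closure_closedPoints (X := J.left)
    rw [hcl.closure_eq] at h2
    rw [h2]
    trivial
  have h2 : ξ ∈ ({genericPoint J.left} : Set J.left) :=
    (genericPoint_specializes ξ).mem_closed h1 rfl
  exact h h2.symm

section curve

variable {k : Type u} [Field k] [IsAlgClosed k] {X : Scheme.{u}} [X.Over (Spec (CommRingCat.of k))]
  [IsProper (X ↘ Spec (CommRingCat.of k))] [Smooth (X ↘ Spec (CommRingCat.of k))]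
  [GeometricallyConnected (X ↘ Spec (CommRingCat.of k))] (hdim : topologicalKrullDim X = 1)
  {J : Over (B0 k)} [GrpObj J] [IsCommMonObj J] {ψ : (ModFun.PicDeg (st k X) 0).Hom ⊤ J}
  (hJ : Jac.IsJacobian (st k X) ⊤ J ψ)

open K532.CurvePic K532.Wr K532.Setup K532.KPts in
include hdim hJ in
omit [IsCommMonObj J] in
/-- The theta divisor is irreducible. -/
theorem isIrreducible_thetaLocus {g : ℕ} (hg : Curv2.genus k X = g) (hg1 : 1 ≤ g) {N : X.Modules}
    (hN : PicF.IsInvertible N) (hNdeg : Curv2.deg k X N 1 = (g : ℤ) - 1) :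
    IsIrreducible (Jac.thetaLocus (st k X) 0 ψ N) := by
  obtain ⟨hX, hp, hgi, hs, σ, hσ, ξ, h, j, hj, hψ, hbase⟩ := K532.ThetaAmple.exists_setup hdim hJ
  have hdeg : deg k X (mk N hN) = (gen k X : ℤ) - 1 := by
    rw [deg_mk k X hdim, hNdeg, ← hg]
  obtain ⟨ν, hν⟩ := K531.ThetaLoc.exists_thetaLocus_eq hX h hψ hj hN hdeg (by change 1 ≤ Curv2.genus k X; omega)
  have hgi' : GeometricallyIntegral (X ↘ Spec (CommRingCat.of k)) := K532.Base.geometricallyIntegral _
  have h1 : IsIntegral (Over.mk (WidePullback.base fun (_ : Fin (gen k X - 1)) => (X ↘ Spec (CommRingCat.of k)))).left :=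
    isIntegral_pow (X ↘ Spec (CommRingCat.of k)) (gen k X - 1)
  have h2 : IsIrreducible (W j (gen k X - 1)) := by
    change IsIrreducible (Set.range (sm j (gen k X - 1)).left)
    rw [← Set.image_univ]
    exact (IrreducibleSpace.isIrreducible_univ _).image _ (sm j (gen k X - 1)).left.continuous.continuousOn
  have h3 := h2.image _ (Jac.transl J ν).left.continuous.continuousOn
  rw [← hν] at h3
  exact h3

include hdim hJ in
omit [IsCommMonObj J] in
/-- The generic point of the theta divisor. -/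
theorem exists_generic {g : ℕ} (hg : Curv2.genus k X = g) (hg1 : 1 ≤ g) {N : X.Modules}
    (hN : PicF.IsInvertible N) (hNdeg : Curv2.deg k X N 1 = (g : ℤ) - 1) :
    ∃ ξ : J.left, closure {ξ} = Jac.thetaLocus (st k X) 0 ψ N := by
  obtain ⟨ξ, hξ⟩ := QuasiSober.sober (isIrreducible_thetaLocus hdim hJ hg hg1 hN hNdeg) isClosed_closure
  exact ⟨ξ, hξ⟩

theorem generic_ne {Y : Scheme.{u}} [IsIntegral Y] {S : TopologicalSpace.Closeds Y} {ξ : Y}
    (hξ : closure {ξ} = (S : Set Y)) (hI : BlowUp.IsEffCartierIdeal (Scheme.IdealSheafData.vanishingIdeal S)) :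
    genericPoint Y ≠ ξ := by
  rintro rfl
  apply ne_bot_of_isEff hI
  rw [← Scheme.IdealSheafData.support_eq_top_iff]
  apply TopologicalSpace.Closeds.ext
  rw [Scheme.IdealSheafData.coe_support_vanishingIdeal, ← hξ]
  exact genericPoint_closure Y

include hdim hJ in
/-- **The ideals of distinct translates of the theta divisor**: an ideal contained in all of them is contained in the
product. -/
theorem le_prod_tr {g : ℕ} (hg : Curv2.genus k X = g) (hg1 : 1 ≤ g) {N : X.Modules}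
    (hN : PicF.IsInvertible N) (hNdeg : Curv2.deg k X N 1 = (g : ℤ) - 1) {ΘJ : J.left.Modules}
    (hΘJ : Jac.IsThetaLB (st k X) 0 ψ N ΘJ) {n : ℕ} (x : Fin n → Pt J) (hx : Function.Injective x)
    {K : J.left.IdealSheafData} (hK : ∀ i, K ≤ (Scheme.IdealSheafData.vanishingIdeal
      ⟨Jac.thetaLocus (st k X) 0 ψ N, isClosed_closure⟩).comap (tr (x i)).left) :
    K ≤ ∏ i, (Scheme.IdealSheafData.vanishingIdeal
      ⟨Jac.thetaLocus (st k X) 0 ψ N, isClosed_closure⟩).comap (tr (x i)).left := by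
  obtain ⟨hX, hp, hgi, hs, σ, hσ, ξ', h, j, hj, hψ, hbase⟩ := K532.ThetaAmple.exists_setup hdim hJ
  have hint : IsIntegral J.left := GeometricallyIntegral.isIntegral_of_subsingleton J.hom
  obtain ⟨ξ, hξ⟩ := exists_generic hdim hJ hg hg1 hN hNdeg
  obtain ⟨e'⟩ := id hΘJ.2
  have hi' := Groth.Agent.Fga.IntAdd.isInvertible_of_tensor e'
  have hE' := Groth.Agent.Dix.IdealModCartier.isEffCartierIdeal_of_isInvertible hi'
  let S : TopologicalSpace.Closeds J.left := ⟨Jac.thetaLocus (st k X) 0 ψ N, isClosed_closure⟩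
  have hξ' : closure {ξ} = (S : Set J.left) := hξ
  have key : ∀ i, (Scheme.IdealSheafData.vanishingIdeal S).comap (tr (x i)).left =
      Scheme.IdealSheafData.vanishingIdeal (S.preimage (tr (x i)).left.continuous) := fun i => comap_tr (x i) S
  have hcl : ∀ i, closure {(tr (x i)⁻¹).left ξ} = (S.preimage (tr (x i)).left.continuous : Set J.left) :=
    fun i => closure_tr (x i) hξ'
  have hEi : ∀ i, BlowUp.IsEffCartierIdeal
      (Scheme.IdealSheafData.vanishingIdeal (S.preimage (tr (x i)).left.continuous)) := fun i => by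
    rw [← key i]
    exact isEff_tr hE' (x i)
  have hprod : ∏ i, (Scheme.IdealSheafData.vanishingIdeal S).comap (tr (x i)).left =
      ∏ i, Scheme.IdealSheafData.vanishingIdeal (S.preimage (tr (x i)).left.continuous) :=
    Finset.prod_congr rfl fun i _ => key i
  refine le_trans ?_ hprod.ge
  refine le_prod Finset.univ (fun i => S.preimage (tr (x i)).left.continuous) (fun i => (tr (x i)⁻¹).left ξ)
    (fun i _ => hcl i) (fun i _ => LocPrin.of_isEff (hEi i)) (fun i _ => generic_ne (hcl i) (hEi i)) ?_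
    (fun i _ => (hK i).trans (key i).le)
  intro a _ b _ hab heq
  apply hab
  apply hx
  have h1 : S.preimage (tr (x a)).left.continuous = S.preimage (tr (x b)).left.continuous := by
    apply TopologicalSpace.Closeds.ext
    rw [← hcl a, ← hcl b, heq]
  have h2 : (Scheme.IdealSheafData.vanishingIdeal S).comap (tr (x a)).left =
      (Scheme.IdealSheafData.vanishingIdeal S).comap (tr (x b)).left := by rw [key, key, h1]
  have h3 : Groth.Agent.Grpsch.Cube.pl (tr (x a)) (mk ΘJ hΘJ.1) = Groth.Agent.Grpsch.Cube.pl (tr (x b)) (mk ΘJ hΘJ.1) :=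
    pl_tr_eq hΘJ.1 hΘJ.2 h2
  have h4 : phi (mk ΘJ hΘJ.1) (x a * (x b)⁻¹) = 1 := by
    rw [phi_mul, phi_inv, phi, phi, h3, mul_inv_cancel]
  have h5 := K532.ThetaAmple.theta_stab hdim hJ g hg hg1 N hN hNdeg ΘJ hΘJ (x a * (x b)⁻¹) (by
    rw [phi, mul_inv_eq_one] at h4
    have h6 : Groth.Agent.Grpsch.Cube.pl (tr (x a * (x b)⁻¹)) (mk ΘJ hΘJ.1) =
        mk _ (Groth.Agent.Fdesc.LocGen.isInvertible_pullback _ hΘJ.1) := pull_mk _ hΘJ.1
    rw [h6, mk_eq_iff] at h4
    exact h4)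
  exact mul_inv_eq_one.1 h5

/-- Pull-backs of locally principal ideals. -/
theorem LocPrin.comap {Y Z : Scheme.{u}} (f : Z ⟶ Y) {I : Y.IdealSheafData} (hI : LocPrin I) :
    LocPrin (I.comap f) := by
  intro z
  obtain ⟨U, hU, a, ha⟩ := hI (f z)
  obtain ⟨_, ⟨V, hV, rfl⟩, hzV, hVU⟩ := Z.isBasis_affineOpens.exists_subset_of_mem_open
    (show z ∈ f ⁻¹ᵁ U.1 from hU) (f ⁻¹ᵁ U.1).isOpen
  refine ⟨⟨V, hV⟩, hzV, (f.appLE U.1 V hVU).hom a, ?_⟩
  rw [Groth.Agent.Divis.IdealComap.ideal_comap I f U ⟨V, hV⟩ hVU, ha, Ideal.map_span, Set.image_singleton]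

open K28.SO in
include hdim hJ in
/-- **The ideal of the theta locus on the orbit of a sum of distinct line bundles.** -/
theorem comap_eq {g : ℕ} (hg : Curv2.genus k X = g) (hg1 : 1 ≤ g) {N : X.Modules}
    (hN : PicF.IsInvertible N) (hNdeg : Curv2.deg k X N 1 = (g : ℤ) - 1) {ΘJ : J.left.Modules}
    (hΘJ : Jac.IsThetaLB (st k X) 0 ψ N ΘJ) (FJ : FineJ (st k X) J ψ) (hR : RankOne ψ N) {n : ℕ}
    (hs : FamSupp k X (n + 1) N) {M : Over (B0 k)} {φ : (BunMod.USS (st k X) (n + 1) 0).Hom ⊤ M}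
    {𝔗 : M.left.IdealSheafData} (h𝔗 : LocPrin 𝔗)
    (hfam : ∀ (T : Over (B0 k)) (E : (PicF.XT (st k X) T).Modules) (hE : (BunMod.USS (st k X) (n + 1) 0).ok T E),
      𝔗.comap (φ.app T E trivial hE).left = thetaIdeal k N T E)
    {E₁ : (PicF.XT (st k X) (Over.mk (𝟙 (B0 k)))).Modules}
    (h₁ : BunMod.ussDetOK (st k X) (n + 1) (Coh.structureModule X) (Over.mk (𝟙 (B0 k))) E₁)
    (hst : letI : (PicF.XT (st k X) (Over.mk (𝟙 (B0 k)))).Over (Spec (CommRingCat.of k)) :=
        ⟨PicF.XTproj (st k X) (Over.mk (𝟙 (B0 k)))⟩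
      ModFun.IsSlopeStable k (PicF.XT (st k X) (Over.mk (𝟙 (B0 k)))) E₁ (n + 1))
    (x : Fin (n + 1) → Pt J) (hx : Function.Injective x) (hx1 : ∏ i, x i = 1)
    (hok : (BunMod.USS (st k X) (n + 1) 0).ok J (TwJ FJ (E0 FJ x))) :
    (Scheme.IdealSheafData.vanishingIdeal
      ⟨BunMod.thetaLocus (st k X) (BunMod.ussOK (st k X) (n + 1) 0) φ N, isClosed_closure⟩).comap
        (φ.app J (TwJ FJ (E0 FJ x)) trivial hok).left = thetaIdeal k N J (TwJ FJ (E0 FJ x)) := by
  obtain ⟨hX, hp, hgi, hsm, σ, hσ, ξ', h, j, hj, hψ, hbase⟩ := K532.ThetaAmple.exists_setup hdim hJ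
  have hint : IsIntegral J.left := GeometricallyIntegral.isIntegral_of_subsingleton J.hom
  have hNf : FlatMod.IsFinLocFree N := K703.Basic.isFinLocFree_of_rank (K707.TensL.rank_one_iff.mpr hN)
  have hK := thetaIdeal_TwJ hdim FJ hNf hR x
  obtain ⟨e'⟩ := id hΘJ.2
  have hi' := Groth.Agent.Fga.IntAdd.isInvertible_of_tensor e'
  have hE' := Groth.Agent.Dix.IdealModCartier.isEffCartierIdeal_of_isInvertible hi'
  have hKe : BlowUp.IsEffCartierIdeal (thetaIdeal k N J (TwJ FJ (E0 FJ x))) := by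
    rw [hK]
    obtain ⟨h3, -⟩ := Groth.Agent.Fga.JacFactor.dcl_prod _ fun i => isEff_tr hE' (x i)
    exact h3
  have hsub := support_subset hdim FJ (φ := φ) hNf hs (by omega) (𝔗 := 𝔗)
    (fun T E hE => by rw [← hfam T E hE]; exact LocPrin.comap _ h𝔗) hfam (ussDetOK_E0 hdim FJ x hx1) h₁ hst
    (ne_bot_of_isEff hKe) hok
  refine le_antisymm ?_ ?_
  · rw [hK]
    refine le_prod_tr hdim hJ hg hg1 hN hNdeg hΘJ x hx fun i => ?_
    rw [comap_tr]
    refine (K532.ThetaIdeal.comap_vanishingIdeal_le _ _).trans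
      (Scheme.IdealSheafData.vanishingIdeal_antimono fun z hz => hsub ?_)
    rw [hK, mem_support_prod]
    refine ⟨i, Finset.mem_univ i, ?_⟩
    rw [comap_tr, Scheme.IdealSheafData.coe_support_vanishingIdeal]
    exact hz
  · rw [← hfam J _ hok]
    exact Scheme.IdealSheafData.comap_mono _ (le_vanishing hs hfam)

include hdim hJ in
/-- **(B1), without density**: `Θ` pulls back to `ΘJ^r` along the twists of some bundle with trivial determinant. -/
theorem exists_slice {g : ℕ} (hg : Curv2.genus k X = g) (hg1 : 1 ≤ g) {N : X.Modules}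
    (hN : PicF.IsInvertible N) (hNdeg : Curv2.deg k X N 1 = (g : ℤ) - 1) {ΘJ : J.left.Modules}
    (hΘJ : Jac.IsThetaLB (st k X) 0 ψ N ΘJ) (FJ : FineJ (st k X) J ψ) (hR : RankOne ψ N) {n : ℕ}
    (hs : FamSupp k X (n + 1) N) {M : Over (B0 k)} {φ : (BunMod.USS (st k X) (n + 1) 0).Hom ⊤ M}
    {𝔗 : M.left.IdealSheafData} (h𝔗 : LocPrin 𝔗)
    (hfam : ∀ (T : Over (B0 k)) (E : (PicF.XT (st k X) T).Modules) (hE : (BunMod.USS (st k X) (n + 1) 0).ok T E),
      𝔗.comap (φ.app T E trivial hE).left = thetaIdeal k N T E)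
    {E₁ : (PicF.XT (st k X) (Over.mk (𝟙 (B0 k)))).Modules}
    (h₁ : BunMod.ussDetOK (st k X) (n + 1) (Coh.structureModule X) (Over.mk (𝟙 (B0 k))) E₁)
    (hst : letI : (PicF.XT (st k X) (Over.mk (𝟙 (B0 k)))).Over (Spec (CommRingCat.of k)) :=
        ⟨PicF.XTproj (st k X) (Over.mk (𝟙 (B0 k)))⟩
      ModFun.IsSlopeStable k (PicF.XT (st k X) (Over.mk (𝟙 (B0 k)))) E₁ (n + 1))
    {Θ : M.left.Modules} (hΘ : BunMod.IsThetaLB (st k X) (BunMod.ussOK (st k X) (n + 1) 0) φ N Θ) :
    ∃ E₀ : (PicF.XT (st k X) (𝟙_ (Over (B0 k)))).Modules,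
      (BunMod.USSdet (st k X) (n + 1) (Coh.structureModule X)).ok (𝟙_ (Over (B0 k))) E₀ ∧
        K28.SO.Slice FJ φ E₀ Θ ΘJ := by
  obtain ⟨hX, hp, hgi, hsm, σ, hσ, ξ', h, j, hj, hψ, hbase⟩ := K532.ThetaAmple.exists_setup hdim hJ
  have hint : IsIntegral J.left := GeometricallyIntegral.isIntegral_of_subsingleton J.hom
  have hNf : FlatMod.IsFinLocFree N := K703.Basic.isFinLocFree_of_rank (K707.TensL.rank_one_iff.mpr hN)
  obtain ⟨e'⟩ := id hΘJ.2
  have hi' := Groth.Agent.Fga.IntAdd.isInvertible_of_tensor e'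
  have hE' := Groth.Agent.Dix.IdealModCartier.isEffCartierIdeal_of_isInvertible hi'
  obtain ⟨ξ, hξ⟩ := exists_generic hdim hJ hg hg1 hN hNdeg
  have hinf : Infinite (Pt J) := infinite_pt (ξ := ξ)
    (generic_ne (S := ⟨Jac.thetaLocus (st k X) 0 ψ N, isClosed_closure⟩) hξ hE')
  obtain ⟨x, hx1, hx⟩ := K367.Points.exists_gen_prod (G := Pt J) (F := {1}) (Set.finite_singleton 1)
    (fun S hS => K506.AmpleNd.finite_sq_mem S hS) n
  have hxi : Function.Injective x := by
    intro a b hab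
    by_contra hne
    exact hx a b hne (by rw [hab, mul_inv_cancel]; rfl)
  have hok : (BunMod.USS (st k X) (n + 1) 0).ok J (TwJ FJ (E0 FJ x)) :=
    ⟨trivial, ussOK_TwJ hdim FJ (ussOK_E0 hdim FJ x)⟩
  refine ⟨E0 FJ x, ⟨trivial, ussDetOK_E0 hdim FJ x hx1⟩, fun h' => ?_⟩
  have h1 := comap_eq hdim hJ hg hg1 hN hNdeg hΘJ FJ hR hs h𝔗 hfam h₁ hst x hxi hx1 hok
  have h2 := pl_mk_eq' hdim FJ hNf hR x hx1 hΘ.1 hΘ.2 hΘJ _ h1
  have h3 : φ.app J (TwJ FJ (E0 FJ x)) trivial hok =
      φ.app J (CohB1.tensorMod (K757.Fam.pl (st k X) (toUnit J) (E0 FJ x)) FJ.P) trivial h' := by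
    refine φ.resp _ _ trivial hok h' (K757.Fam.r_of_iso (st k X) ?_)
    exact K757.Fam.tens_congr ⟨Iso.refl _⟩ ⟨plId J FJ.P⟩
  rw [h3, ← mk_tensorPow hΘJ.1 (n + 1)] at h2
  have h4 : Groth.Agent.Grpsch.Cube.pl (φ.app J (CohB1.tensorMod (K757.Fam.pl (st k X) (toUnit J) (E0 FJ x)) FJ.P)
      trivial h') (mk Θ hΘ.1) = mk _ (Groth.Agent.Fdesc.LocGen.isInvertible_pullback _ hΘ.1) := pull_mk _ hΘ.1
  rw [h4, mk_eq_iff] at h2
  exact h2

end curve

end K367.B1Final
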