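import Groth.Agent.BunMod.K367.TopCore
import Groth.Agent.BunMod.K367.B1Det
import Groth.Agent.BunMod.K824.Join
import Groth.Agent.BunMod.K325.StableOpen
import Groth.Agent.BunMod.K562.Jump
import Groth.Agent.AbVar.K528.Irr

/-!
# Points of the theta locus on the orbit of a bundle

`𝔗` an ideal of the moduli space pulling back to the theta ideals of all families.

* `le_vanishing`: `𝔗` is contained in the ideal of the theta locus;
* `support_subset`: if `E₀` and a stable `E₁` have trivial determinants and some twist `E₀ ⊗ ξ ⊗ N` has no sections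
  then the points of `J` under twists `E₀ ⊗ ξ` with `H⁰(E₀ ⊗ ξ ⊗ N) ≠ 0` go to the theta locus.
-/

set_option autoImplicit false
universe u

open CategoryTheory CategoryTheory.Limits AlgebraicGeometry MonoidalCategory CartesianMonoidalCategory MonObj

namespace K367.B1Lite

open K325.StabFib K518.Phi K140.BM K757.TwistUSS K367.SumL K367.B1Core K367.Krull K367.TopCore K562.Jump

section gen

variable {k : Type u} [Field k] {X : Scheme.{u}} [X.Over (Spec (CommRingCat.of k))]

/-- The support of the theta ideals of the families. -/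
def FamSupp (k : Type u) [Field k] (X : Scheme.{u}) [X.Over (Spec (CommRingCat.of k))] (r : ℕ) (N : X.Modules) :
    Prop :=
  ∀ (T : Over (B0 k)) (E : (PicF.XT (st k X) T).Modules), BunMod.ussOK (st k X) r 0 T E →
    ∀ (Ω : Type u) [Field Ω] [IsAlgClosed Ω] (s : Spec (CommRingCat.of Ω) ⟶ B0 k) (c : Over.mk s ⟶ T)
      (p : (Over.mk s).left), c.left p ∈ ((thetaIdeal k N T E).support : Set T.left) ↔ SecAt N Ω s (pl k X c E)

variable {r : ℕ} {N : X.Modules} {M : Over (B0 k)} (φ : (BunMod.USS (st k X) r 0).Hom ⊤ M)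

theorem mem_jumpLocus {T : Over (B0 k)} {E : (PicF.XT (st k X) T).Modules} (hE : (BunMod.USS (st k X) r 0).ok T E)
    {Ω : Type u} [Field Ω] [IsAlgClosed Ω] {s : Spec (CommRingCat.of Ω) ⟶ B0 k} (c : Over.mk s ⟶ T)
    (h1 : StabAt Ω s (pl k X c E)) (h2 : SecAt N Ω s (pl k X c E)) (p : (Over.mk s).left) :
    (φ.app T E trivial hE).left (c.left p) ∈ BunMod.jumpLocus (st k X) (BunMod.ussOK (st k X) r 0) φ N := by
  have hok : (BunMod.USS (st k X) r 0).ok (Over.mk s) (pl k X c E) := ⟨trivial, K757.Geo.ussOK_pull c hE.2⟩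
  refine ⟨Ω, _, ‹_›, s, trivial, pl k X c E, hok, ⟨h1, h2⟩, p, ?_⟩
  have h3 : φ.app (Over.mk s) (pl k X c E) trivial hok = c ≫ φ.app T E trivial hE :=
    φ.natural c E trivial trivial hE hok
  change (φ.app (Over.mk s) (pl k X c E) trivial hok).left p = _
  rw [h3]
  rfl

variable {φ}

/-- An ideal pulling back to the theta ideals of the families is contained in the ideal of the theta locus. -/
theorem le_vanishing (hs : FamSupp k X r N) {𝔗 : M.left.IdealSheafData}
    (hfam : ∀ (T : Over (B0 k)) (E : (PicF.XT (st k X) T).Modules) (hE : (BunMod.USS (st k X) r 0).ok T E),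
      𝔗.comap (φ.app T E trivial hE).left = thetaIdeal k N T E) :
    𝔗 ≤ Scheme.IdealSheafData.vanishingIdeal
      ⟨BunMod.thetaLocus (st k X) (BunMod.ussOK (st k X) r 0) φ N, isClosed_closure⟩ := by
  rw [← Scheme.IdealSheafData.le_support_iff_le_vanishingIdeal]
  refine closure_minimal ?_ 𝔗.support.isClosed
  rintro m ⟨Ω, _, _, s, hP, E, hE, ⟨h1, h2⟩, p, rfl⟩
  have h3 : p ∈ ((𝔗.comap (φ.app (Over.mk s) E trivial hE).left).support : Set (Over.mk s).left) := by
    rw [hfam (Over.mk s) E hE]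
    have h4 := (hs (Over.mk s) E hE.2 Ω s (𝟙 (Over.mk s)) p).2 (SecAt.of_iso (plId _ E).symm h2)
    exact h4
  rw [Scheme.IdealSheafData.support_comap] at h3
  exact h3

theorem stable_of_stAt {T : Over (B0 k)} {E : (PicF.XT (st k X) T).Modules} {Ω : Type u} [Field Ω]
    {s : Spec (CommRingCat.of Ω) ⟶ B0 k} (c : Over.mk s ⟶ T) (h : StAt r E c.left) :
    letI : (PicF.XT (st k X) (Over.mk s)).Over (Spec (CommRingCat.of Ω)) := ⟨PicF.XTproj (st k X) (Over.mk s)⟩
    ModFun.IsSlopeStable Ω (PicF.XT (st k X) (Over.mk s)) (pl k X c E) r := by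
  have key : ∀ (s : Spec (CommRingCat.of Ω) ⟶ B0 k) (t' : Spec (CommRingCat.of Ω) ⟶ T.left) (hs : t' ≫ T.hom = s),
      StAt r E t' →
      letI : (PicF.XT (st k X) (Over.mk s)).Over (Spec (CommRingCat.of Ω)) := ⟨PicF.XTproj (st k X) (Over.mk s)⟩
      ModFun.IsSlopeStable Ω (PicF.XT (st k X) (Over.mk s))
        (pl k X (Over.homMk t' hs : Over.mk s ⟶ T) E) r := by
    rintro s t' rfl h
    exact h
  have h1 := key s c.left (Over.w c) h
  have h2 : (Over.homMk c.left (Over.w c) : Over.mk s ⟶ T) = c := by ext; rfl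
  rwa [h2] at h1

theorem stAt_of_stable {T : Over (B0 k)} {E : (PicF.XT (st k X) T).Modules} {Ω : Type u} [Field Ω]
    {s : Spec (CommRingCat.of Ω) ⟶ B0 k} (c : Over.mk s ⟶ T)
    (h : letI : (PicF.XT (st k X) (Over.mk s)).Over (Spec (CommRingCat.of Ω)) := ⟨PicF.XTproj (st k X) (Over.mk s)⟩
      ModFun.IsSlopeStable Ω (PicF.XT (st k X) (Over.mk s)) (pl k X c E) r) : StAt r E c.left := by
  have key : ∀ (s : Spec (CommRingCat.of Ω) ⟶ B0 k) (t' : Spec (CommRingCat.of Ω) ⟶ T.left) (hs : t' ≫ T.hom = s),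
      (letI : (PicF.XT (st k X) (Over.mk s)).Over (Spec (CommRingCat.of Ω)) := ⟨PicF.XTproj (st k X) (Over.mk s)⟩
      ModFun.IsSlopeStable Ω (PicF.XT (st k X) (Over.mk s))
        (pl k X (Over.homMk t' hs : Over.mk s ⟶ T) E) r) → StAt r E t' := by
    rintro s t' rfl h
    exact h
  have h2 : (Over.homMk c.left (Over.w c) : Over.mk s ⟶ T) = c := by ext; rfl
  exact key s c.left (Over.w c) (by rw [h2]; exact h)

/-- A geometric point over a point. -/
theorem exists_geom (T : Over (B0 k)) (y : T.left) : ∃ (Ω : Type u) (_ : Field Ω) (_ : IsAlgClosed Ω)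
    (s : Spec (CommRingCat.of Ω) ⟶ B0 k) (c : Over.mk s ⟶ T), c.left (IsLocalRing.closedPoint Ω) = y := by
  let t : Spec (CommRingCat.of (AlgebraicClosure (T.left.residueField y))) ⟶ T.left :=
    Spec.map (CommRingCat.ofHom (algebraMap (T.left.residueField y) (AlgebraicClosure (T.left.residueField y)))) ≫
      T.left.fromSpecResidueField y
  refine ⟨AlgebraicClosure (T.left.residueField y), inferInstance, inferInstance, t ≫ T.hom, Over.homMk t rfl, ?_⟩
  have h1 : T.left.fromSpecResidueField y (Spec.map (CommRingCat.ofHom (algebraMap (T.left.residueField y)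
      (AlgebraicClosure (T.left.residueField y)))) (IsLocalRing.closedPoint _)) ∈
      Set.range (T.left.fromSpecResidueField y) := ⟨_, rfl⟩
  rw [Scheme.range_fromSpecResidueField] at h1
  change t _ = y
  rw [Scheme.Hom.comp_apply]
  exact h1

end gen

section line

variable {k : Type u} [Field k]

/-- On an open of the line every point is closed or generic. -/
theorem specializes_sA {f : Polynomial k} (hf : f ≠ 0) (a b : (K824.Join.sA k (Localization.Away f)).left)
    (h : a ⤳ b) : a = b ∨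
      (have : IsIntegral (K824.Join.sA k (Localization.Away f)).left :=
        haveI : IsDomain (Localization.Away f) :=
          IsLocalization.isDomain_localization (powers_le_nonZeroDivisors_of_noZeroDivisors hf)
        inferInstanceAs (IsIntegral (Spec (CommRingCat.of (Localization.Away f))));
      a = genericPoint (K824.Join.sA k (Localization.Away f)).left) := by
  have hle := powers_le_nonZeroDivisors_of_noZeroDivisors hf
  have hD : IsDomain (Localization.Away f) := IsLocalization.isDomain_localization hle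
  have hP : IsDedekindDomain (Localization.Away f) :=
    IsLocalization.isDedekindDomain (Polynomial k) hle (Localization.Away f)
  let a' : PrimeSpectrum (Localization.Away f) := a
  let b' : PrimeSpectrum (Localization.Away f) := b
  have h1 : a'.asIdeal ≤ b'.asIdeal := (PrimeSpectrum.le_iff_specializes a' b').2 h
  by_cases ha : a'.asIdeal = ⊥
  · right
    have h2 := genericPoint_eq_bot_of_affine (CommRingCat.of (Localization.Away f))
    refine Eq.trans ?_ h2.symm
    exact PrimeSpectrum.ext ha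
  · left
    have h3 : a'.asIdeal.IsMaximal := Ring.DimensionLEOne.maximalOfPrime ha a'.isPrime
    exact PrimeSpectrum.ext (h3.eq_of_le b'.isPrime.ne_top h1)

end line

section main

variable {k : Type u} [Field k] [IsAlgClosed k] {X : Scheme.{u}} [X.Over (Spec (CommRingCat.of k))]
  [IsProper (X ↘ Spec (CommRingCat.of k))] [Smooth (X ↘ Spec (CommRingCat.of k))]
  [GeometricallyConnected (X ↘ Spec (CommRingCat.of k))] (hdim : topologicalKrullDim X = 1)
  {J : Over (B0 k)} [GrpObj J] {ψ : (ModFun.PicDeg (st k X) 0).Hom ⊤ J} (FJ : FineJ (st k X) J ψ)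
  {r : ℕ} {N : X.Modules} {M : Over (B0 k)} {φ : (BunMod.USS (st k X) r 0).Hom ⊤ M}

include hdim in
/-- **The points of the orbit of `E₀` in the theta divisor are in the theta locus.** -/
theorem support_subset [IsIntegral J.left] [LocallyOfFiniteType J.hom] (hN : FlatMod.IsFinLocFree N)
    (hs : FamSupp k X r N) (hr : 1 ≤ r)
    {𝔗 : M.left.IdealSheafData} (h𝔗 : ∀ (T : Over (B0 k)) (E : (PicF.XT (st k X) T).Modules)
      (_ : (BunMod.USS (st k X) r 0).ok T E), LocPrin (thetaIdeal k N T E))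
    (hfam : ∀ (T : Over (B0 k)) (E : (PicF.XT (st k X) T).Modules) (hE : (BunMod.USS (st k X) r 0).ok T E),
      𝔗.comap (φ.app T E trivial hE).left = thetaIdeal k N T E)
    {E₀ E₁ : (PicF.XT (st k X) (Over.mk (𝟙 (B0 k)))).Modules}
    (h₀ : BunMod.ussDetOK (st k X) r (Coh.structureModule X) (Over.mk (𝟙 (B0 k))) E₀)
    (h₁ : BunMod.ussDetOK (st k X) r (Coh.structureModule X) (Over.mk (𝟙 (B0 k))) E₁)
    (hst : letI : (PicF.XT (st k X) (Over.mk (𝟙 (B0 k)))).Over (Spec (CommRingCat.of k)) :=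
        ⟨PicF.XTproj (st k X) (Over.mk (𝟙 (B0 k)))⟩
      ModFun.IsSlopeStable k (PicF.XT (st k X) (Over.mk (𝟙 (B0 k)))) E₁ r)
    (hne : thetaIdeal k N J (TwJ FJ E₀) ≠ ⊥) (hok : (BunMod.USS (st k X) r 0).ok J (TwJ FJ E₀)) :
    ((thetaIdeal k N J (TwJ FJ E₀)).support : Set J.left) ⊆
      (φ.app J (TwJ FJ E₀) trivial hok).left ⁻¹'
        BunMod.thetaLocus (st k X) (BunMod.ussOK (st k X) r 0) φ N := by
  have hL : Curv2.deg k X (Coh.structureModule X) 1 = 0 := by
    rw [Curv2.deg]
    simp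
  obtain ⟨f, w₀, w₁, F, hf, hF, ⟨e₀⟩, ⟨e₁⟩⟩ := K824.Join.exists_family k X hdim hr hL h₀ h₁
  let W : Over (B0 k) := K824.Join.sA k (Localization.Away f)
  have hD : IsDomain (Localization.Away f) :=
    IsLocalization.isDomain_localization (powers_le_nonZeroDivisors_of_noZeroDivisors hf)
  have hWi : IsIntegral W.left := inferInstanceAs (IsIntegral (Spec (CommRingCat.of (Localization.Away f))))
  have hWn : IsLocallyNoetherian W.left :=
    inferInstanceAs (IsLocallyNoetherian (Spec (CommRingCat.of (Localization.Away f))))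
  have hWf : LocallyOfFiniteType W.hom := by
    have h : (algebraMap k (Localization.Away f)).FiniteType := by
      have h0 : Algebra.FinitePresentation (Polynomial k) (Localization.Away f) :=
        IsLocalization.Away.finitePresentation f
      have h1 : Algebra.FiniteType k (Localization.Away f) :=
        Algebra.FiniteType.trans (S := Polynomial k) inferInstance inferInstance
      exact RingHom.finiteType_algebraMap.2 h1
    exact (HasRingHomProperty.Spec_iff (P := @LocallyOfFiniteType)).2 h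
  have hTi : IsIntegral (W ⊗ J).left := K528.Irr.isIntegral_tensor W J
  have hTf : LocallyOfFiniteType (W ⊗ J).hom := by
    have hw1 : (fst W J).left ≫ W.hom = (W ⊗ J).hom := Over.w (fst W J)
    have hp : LocallyOfFiniteType (fst W J).left :=
      inferInstanceAs (LocallyOfFiniteType (pullback.fst W.hom J.hom))
    rw [← hw1]
    infer_instance
  have hTn : IsLocallyNoetherian (W ⊗ J).left := LocallyOfFiniteType.isLocallyNoetherian (W ⊗ J).hom
  have hL' : BunMod.ussOK (st k X) r 0 W F := ((K757.DetM0.ussDet_ok_iff hdim).1 ⟨trivial, hF⟩).1.2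
  -- the family on `W × J`
  let F' : (PicF.XT (st k X) (W ⊗ J)).Modules := CohB1.tensorMod (pl k X (fst W J) F) (FJ.at' (snd W J))
  have hF' : (BunMod.USS (st k X) r 0).ok (W ⊗ J) F' :=
    ⟨trivial, FJ.ussOK_at hdim (snd W J) (K757.Geo.ussOK_pull (fst W J) hL')⟩
  have hsl : Nonempty (pl k X (sl w₀ J) F' ≅ TwJ FJ E₀) := by
    obtain ⟨e2⟩ := FJ.pull_tens_at (sl w₀ J) (snd W J) (pl k X (fst W J) F)
    obtain ⟨e3⟩ := K757.Fam.pl_comp (st k X) (fst W J) (sl w₀ J) F
    obtain ⟨e4⟩ := K757.Fam.pl_comp (st k X) w₀ (toUnit J) F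
    have e5 : Nonempty (pl k X (sl w₀ J ≫ fst W J) F ≅ pl k X (toUnit J ≫ w₀) F) := by rw [lift_fst]; exact ⟨Iso.refl _⟩
    have e6 : Nonempty (FJ.at' (sl w₀ J ≫ snd W J) ≅ FJ.at' (𝟙 J)) := by rw [lift_snd]; exact ⟨Iso.refl _⟩
    obtain ⟨e5⟩ := e5
    obtain ⟨e7⟩ := K757.Fam.tens_congr ⟨e3.symm ≪≫ e5 ≪≫ e4 ≪≫ (Scheme.Modules.pullback _).mapIso e₀⟩ e6
    exact ⟨e2 ≪≫ e7⟩
  obtain ⟨e⟩ := hsl
  have hF'f : FlatMod.IsFinLocFree F' := K703.Basic.isFinLocFree_of_rank hF'.2.1
  have hplf : FlatMod.IsFinLocFree (pl k X (sl w₀ J) F') :=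
    K703.Basic.isFinLocFree_of_rank (K757.Geo.ussOK_pull (sl w₀ J) hF'.2).1
  have hcomap : (thetaIdeal k N (W ⊗ J) F').comap (sl w₀ J).left = thetaIdeal k N J (TwJ FJ E₀) := by
    rw [K54.Theta.thetaIdeal_pl hdim.le hN (sl w₀ J) hF'f]
    exact K54.Theta.thetaIdeal_iso hdim.le hN hplf (K703.Basic.isFinLocFree_of_rank hok.2.1) e
  intro l hl
  obtain ⟨y, hy, hyx, hyg⟩ := K367.TopCore.main (W := W) (J := J) (fun a b h => specializes_sA hf a b h) w₀
    (1 : Pt J) (h𝔗 (W ⊗ J) F' hF') (by rw [hcomap]; exact hne) (l := l) (by rw [hcomap]; exact hl)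
  -- the point `y` goes to the jump locus
  obtain ⟨Ω, _, _, s, c, hc⟩ := exists_geom (W ⊗ J) y
  let _ : (PicF.XT (st k X) (Over.mk s)).Over (Spec (CommRingCat.of Ω)) := ⟨PicF.XTproj (st k X) (Over.mk s)⟩
  have hsec : SecAt N Ω s (pl k X c F') := (hs (W ⊗ J) F' hF'.2 Ω s c _).1 (by rw [hc]; exact hy)
  obtain ⟨U, hU⟩ := K325.StableOpen.exists_stableOpen hdim W hL'
  have h1U : w₁.left (IsLocalRing.closedPoint k) ∈ U := by
    rw [hU k w₁.left]
    exact stAt_of_stable w₁ (K757.Geo.stk_congr ⟨e₁.symm⟩ r hst)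
  have hgU : genericPoint W.left ∈ U := (genericPoint_specializes _).mem_open U.isOpen h1U
  have h2U : (c ≫ fst W J).left (IsLocalRing.closedPoint Ω) ∈ U := by
    have h3 : (c ≫ fst W J).left (IsLocalRing.closedPoint Ω) = genericPoint W.left := by
      rw [Over.comp_left, Scheme.Hom.comp_apply, hc, hyg]
    rw [h3]
    exact hgU
  have h3 := stable_of_stAt (c ≫ fst W J) ((hU Ω (c ≫ fst W J).left).1 h2U)
  have hXi := K757.Geo.isIntegral_XT (f := st k X) s
  have hXp : IsProper (PicF.XT (st k X) (Over.mk s) ↘ Spec (CommRingCat.of Ω)) :=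
    inferInstanceAs (IsProper (pullback.snd (st k X) s))
  have hcrv := K757.Geo.crv_XT (f := st k X) hdim s
  have h4 := K757.Geo.stk_tw hcrv (K757.Geo.rank_pull _ hL'.1) (FJ.inv_at (c ≫ snd W J)) h3
  obtain ⟨e2⟩ := FJ.pull_tens_at c (snd W J) (pl k X (fst W J) F)
  obtain ⟨e3⟩ := K757.Fam.pl_comp (st k X) (fst W J) c F
  obtain ⟨e4⟩ := K757.Fam.tens_congr ⟨e3⟩ ⟨Iso.refl (FJ.at' (c ≫ snd W J))⟩
  have hstab : StabAt Ω s (pl k X c F') :=
    ⟨r, (K757.Geo.ussOK_pull c hF'.2).1, K757.Geo.stk_congr ⟨e4 ≪≫ e2.symm⟩ r h4⟩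
  have h5 := mem_jumpLocus φ hF' c hstab hsec (IsLocalRing.closedPoint Ω)
  rw [hc] at h5
  have h6 : φ.app J (TwJ FJ E₀) trivial hok = sl w₀ J ≫ φ.app (W ⊗ J) F' trivial hF' := by
    have h7 : (BunMod.USS (st k X) r 0).ok J (pl k X (sl w₀ J) F') :=
      ⟨trivial, K757.Geo.ussOK_pull (sl w₀ J) hF'.2⟩
    have h8 : φ.app J (pl k X (sl w₀ J) F') trivial h7 = sl w₀ J ≫ φ.app (W ⊗ J) F' trivial hF' :=
      φ.natural (sl w₀ J) F' trivial trivial hF' h7
    rw [← h8]
    exact φ.resp _ _ trivial hok h7 (K757.Fam.r_of_iso (st k X) ⟨e.symm⟩)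
  rw [h6, Set.mem_preimage, Over.comp_left, Scheme.Hom.comp_apply]
  have h7 := hyx.map (φ.app (W ⊗ J) F' trivial hF').left.continuous
  exact h7.mem_closed isClosed_closure (subset_closure h5)

end main

end K367.B1Lite
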