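import Groth.Agent.CohqB.RelSpec
import Groth.Prelude.Def_RelSpec
import Mathlib.AlgebraicGeometry.Morphisms.QuasiSeparated

/-!
# Functions on a categorical quotient are the invariant functions

`π : Z ⟶ M`, `p₁ p₂ : P ⟶ Z` with `p₁ ≫ π = p₂ ≫ π`, everything quasi-compact and quasi-separated over `M`.  If every
invariant `M`-morphism from `Z` to an `M`-scheme factors through `M`, then `O_M` is the sheaf of invariant functions:
`K367.InvFun.bijective`.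
-/

set_option autoImplicit false
universe u

open CategoryTheory Limits AlgebraicGeometry Opposite

noncomputable section

namespace K367.InvFun

open Groth.Agent.CohqB AlgebraicGeometry.Scheme.AffineZariskiSite

/-- Equalizers commute with localization. -/
theorem eqLocus_away {A A' B B' : Type*} [CommRing A] [CommRing A'] [CommRing B] [CommRing B']
    (i : A →+* A') (j : B →+* B') (a b : A →+* B) (a' b' : A' →+* B') (ha : ∀ x, a' (i x) = j (a x))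
    (hb : ∀ x, b' (i x) = j (b x)) (r : A) (hr : a r = b r)
    (hi : letI := i.toAlgebra; IsLocalization.Away r A') (hj : letI := j.toAlgebra; IsLocalization.Away (a r) B')
    (e : a.eqLocus b →+* a'.eqLocus b') (he : ∀ x, (e x).1 = i x.1) :
    letI := e.toAlgebra
    IsLocalization.Away (⟨r, hr⟩ : a.eqLocus b) (a'.eqLocus b') := by
  let := i.toAlgebra
  let := j.toAlgebra
  let := e.toAlgebra
  have hu : IsUnit (i r) := IsLocalization.Away.algebraMap_isUnit (S := A') r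
  have hmap : ∀ n : ℕ, IsUnit (algebraMap (a.eqLocus b) (a'.eqLocus b') (⟨r, hr⟩ ^ n)) := by
    intro n
    rw [map_pow]
    refine IsUnit.pow n ?_
    obtain ⟨u, hu'⟩ := hu
    have h1 : a' (u⁻¹ : A'ˣ) = b' (u⁻¹ : A'ˣ) := by
      have h2 : a' (u : A') = b' (u : A') := by rw [hu', ha, hb, hr]
      have h3 : (Units.map a'.toMonoidHom u) = (Units.map b'.toMonoidHom u) := Units.ext h2
      have h4 := congrArg (fun v : B'ˣ => ((v⁻¹ : B'ˣ) : B')) h3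
      simpa [← map_inv] using h4
    refine IsUnit.of_mul_eq_one (⟨(u⁻¹ : A'ˣ), h1⟩ : a'.eqLocus b') (Subtype.ext ?_)
    change (e ⟨r, hr⟩).1 * (u⁻¹ : A'ˣ) = 1
    rw [he, ← hu', Units.mul_inv]
  constructor
  constructor
  · rintro ⟨_, n, rfl⟩
    exact hmap n
  · intro z
    obtain ⟨⟨y, ⟨_, n, rfl⟩⟩, hy⟩ := IsLocalization.surj (M := Submonoid.powers r) z.1
    change z.1 * i (r ^ n) = i y at hy
    have hrn : a (r ^ n) = b (r ^ n) := by rw [map_pow, map_pow, hr]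
    have hz : a' z.1 = b' z.1 := z.2
    have h1 : j (a y) = j (b y) := by
      rw [← ha, ← hb, ← hy, map_mul, map_mul, ha, hb, hrn, hz]
    obtain ⟨⟨_, m, rfl⟩, hm⟩ := (IsLocalization.eq_iff_exists (Submonoid.powers (a r)) B').1 h1
    change a r ^ m * a y = a r ^ m * b y at hm
    have h2 : a (r ^ m * y) = b (r ^ m * y) := by
      rw [map_mul, map_mul, map_pow, map_pow, hm, hr]
    refine ⟨⟨⟨r ^ m * y, h2⟩, ⟨_, n + m, rfl⟩⟩, Subtype.ext ?_⟩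
    change z.1 * (e (⟨r, hr⟩ ^ (n + m))).1 = (e ⟨r ^ m * y, h2⟩).1
    rw [he, he]
    change z.1 * i (r ^ (n + m)) = i (r ^ m * y)
    rw [map_mul i (r ^ m) y, ← hy, pow_add, map_mul i]
    ring
  · intro x y hxy
    have h1 : i x.1 = i y.1 := by
      have := congrArg Subtype.val hxy
      change (e x).1 = (e y).1 at this
      rwa [he, he] at this
    obtain ⟨⟨_, m, rfl⟩, hm⟩ := (IsLocalization.eq_iff_exists (Submonoid.powers r) A').1 h1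
    exact ⟨⟨_, m, rfl⟩, Subtype.ext hm⟩

variable {Z P M : Scheme.{u}} (π : Z ⟶ M) (p₁ p₂ : P ⟶ Z) (hp : p₁ ≫ π = p₂ ≫ π)

/-- The first inclusion of opens. -/
theorem le₁ (U : M.Opens) : (p₁ ≫ π) ⁻¹ᵁ U ≤ p₁ ⁻¹ᵁ (π ⁻¹ᵁ U) := le_rfl

include hp in
/-- The second inclusion of opens. -/
theorem le₂ (U : M.Opens) : (p₁ ≫ π) ⁻¹ᵁ U ≤ p₂ ⁻¹ᵁ (π ⁻¹ᵁ U) := by rw [hp]; exact le_rfl

/-- The invariant functions over `U`. -/
def inv (U : M.Opens) : Subring Γ(Z, π ⁻¹ᵁ U) :=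
  ((p₁.appLE (π ⁻¹ᵁ U) ((p₁ ≫ π) ⁻¹ᵁ U) (le₁ π p₁ U)).hom).eqLocus
    ((p₂.appLE (π ⁻¹ᵁ U) ((p₁ ≫ π) ⁻¹ᵁ U) (le₂ π p₁ p₂ hp U)).hom)

variable {π p₁ p₂ hp}

theorem mem_inv {U : M.Opens} {f : Γ(Z, π ⁻¹ᵁ U)} : f ∈ inv π p₁ p₂ hp U ↔
    p₁.appLE (π ⁻¹ᵁ U) ((p₁ ≫ π) ⁻¹ᵁ U) (le₁ π p₁ U) f =
      p₂.appLE (π ⁻¹ᵁ U) ((p₁ ≫ π) ⁻¹ᵁ U) (le₂ π p₁ p₂ hp U) f := Iff.rfl

theorem res_mem {U V : M.Opens} (h : V ≤ U) {f : Γ(Z, π ⁻¹ᵁ U)} (hf : f ∈ inv π p₁ p₂ hp U) :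
    Z.presheaf.map (homOfLE (π.preimage_mono h)).op f ∈ inv π p₁ p₂ hp V := by
  rw [mem_inv] at hf ⊢
  have h1 : ∀ (q : P ⟶ Z) (e : (p₁ ≫ π) ⁻¹ᵁ U ≤ q ⁻¹ᵁ (π ⁻¹ᵁ U)) (e' : (p₁ ≫ π) ⁻¹ᵁ V ≤ q ⁻¹ᵁ (π ⁻¹ᵁ V)),
      q.appLE (π ⁻¹ᵁ V) ((p₁ ≫ π) ⁻¹ᵁ V) e' (Z.presheaf.map (homOfLE (π.preimage_mono h)).op f) =
        P.presheaf.map (homOfLE ((p₁ ≫ π).preimage_mono h)).op (q.appLE (π ⁻¹ᵁ U) ((p₁ ≫ π) ⁻¹ᵁ U) e f) := by
    intro q e e'
    rw [← CommRingCat.comp_apply, ← CommRingCat.comp_apply, Scheme.Hom.map_appLE, Scheme.Hom.appLE_map]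
  rw [h1 p₁ (le₁ π p₁ U), h1 p₂ (le₂ π p₁ p₂ hp U), hf]

theorem app_mem {U : M.Opens} (g : Γ(M, U)) : π.app U g ∈ inv π p₁ p₂ hp U := by
  rw [mem_inv, ← CommRingCat.comp_apply, ← CommRingCat.comp_apply]
  have h1 : ∀ (q : P ⟶ Z) (hq : p₁ ≫ π = q ≫ π) (e : (p₁ ≫ π) ⁻¹ᵁ U ≤ q ⁻¹ᵁ (π ⁻¹ᵁ U)),
      π.app U ≫ q.appLE (π ⁻¹ᵁ U) ((p₁ ≫ π) ⁻¹ᵁ U) e = (p₁ ≫ π).app U := by
    intro q hq e
    rw [← Scheme.Hom.appLE_eq_app, Scheme.Hom.appLE_comp_appLE, ← Scheme.Hom.appLE_eq_app]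
    simp_rw [hq]
  rw [h1 p₁ rfl, h1 p₂ hp]

variable (π p₁ p₂ hp)

/-- Restriction of invariant functions. -/
def resI {U V : M.Opens} (h : V ≤ U) : inv π p₁ p₂ hp U →+* inv π p₁ p₂ hp V :=
  ((Z.presheaf.map (homOfLE (π.preimage_mono h)).op).hom.comp (inv π p₁ p₂ hp U).subtype).codRestrict _
    fun f => res_mem h f.2

theorem resI_coe {U V : M.Opens} (h : V ≤ U) (f : inv π p₁ p₂ hp U) :
    (resI π p₁ p₂ hp h f).1 = Z.presheaf.map (homOfLE (π.preimage_mono h)).op f.1 := rfl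

/-- The sheaf of invariant functions on the affine opens. -/
def func : M.AffineZariskiSiteᵒᵖ ⥤ CommRingCat.{u} where
  obj U := CommRingCat.of (inv π p₁ p₂ hp U.unop.toOpens)
  map {U V} i := CommRingCat.ofHom (resI π p₁ p₂ hp (toOpens_mono i.unop.le))
  map_id U := by
    refine CommRingCat.hom_ext (RingHom.ext fun f => Subtype.ext ?_)
    change Z.presheaf.map (𝟙 (op (π ⁻¹ᵁ U.unop.toOpens))) f.1 = f.1
    rw [CategoryTheory.Functor.map_id]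
    rfl
  map_comp {U V W} i j := by
    refine CommRingCat.hom_ext (RingHom.ext fun f => Subtype.ext ?_)
    change Z.presheaf.map (homOfLE (π.preimage_mono (toOpens_mono (i ≫ j).unop.le))).op f.1 =
      Z.presheaf.map (homOfLE (π.preimage_mono (toOpens_mono j.unop.le))).op
        (Z.presheaf.map (homOfLE (π.preimage_mono (toOpens_mono i.unop.le))).op f.1)
    rw [← CommRingCat.comp_apply, ← Functor.map_comp]
    rfl

/-- The structure map. -/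
def strN : (Scheme.AffineZariskiSite.toOpensFunctor M).op ⋙ M.presheaf ⟶ func π p₁ p₂ hp where
  app U := CommRingCat.ofHom ((π.app U.unop.toOpens).hom.codRestrict _ fun g => app_mem g)
  naturality {U V} i := by
    refine CommRingCat.hom_ext (RingHom.ext fun g => Subtype.ext ?_)
    change π.app V.unop.toOpens (M.presheaf.map (homOfLE (toOpens_mono i.unop.le)).op g) =
      Z.presheaf.map (homOfLE (π.preimage_mono (toOpens_mono i.unop.le))).op (π.app U.unop.toOpens g)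
    rw [← CommRingCat.comp_apply, ← CommRingCat.comp_apply, Scheme.Hom.naturality]
    rfl

theorem strN_coe (U : M.AffineZariskiSite) (g : Γ(M, U.toOpens)) :
    ((strN π p₁ p₂ hp).app (op U) g : inv π p₁ p₂ hp U.toOpens).1 = π.app U.toOpens g := rfl

section Qc

variable [QuasiCompact π] [QuasiSeparated π] [QuasiCompact (p₁ ≫ π)] [QuasiSeparated (p₁ ≫ π)]

/-- The key localization computation. -/
theorem isLocalization (U : M.AffineZariskiSite) (r : Γ(M, U.toOpens)) :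
    letI := (resI π p₁ p₂ hp (M.basicOpen_le r)).toAlgebra
    IsLocalization.Away (⟨π.app U.toOpens r, app_mem r⟩ : inv π p₁ p₂ hp U.toOpens)
      (inv π p₁ p₂ hp (M.basicOpen r)) := by
  have h1 : ∀ (q : P ⟶ Z) (e : (p₁ ≫ π) ⁻¹ᵁ U.toOpens ≤ q ⁻¹ᵁ (π ⁻¹ᵁ U.toOpens))
      (e' : (p₁ ≫ π) ⁻¹ᵁ M.basicOpen r ≤ q ⁻¹ᵁ (π ⁻¹ᵁ M.basicOpen r)) (f : Γ(Z, π ⁻¹ᵁ U.toOpens)),
      q.appLE (π ⁻¹ᵁ M.basicOpen r) ((p₁ ≫ π) ⁻¹ᵁ M.basicOpen r) e'
          (Z.presheaf.map (homOfLE (π.preimage_mono (M.basicOpen_le r))).op f) =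
        P.presheaf.map (homOfLE ((p₁ ≫ π).preimage_mono (M.basicOpen_le r))).op
          (q.appLE (π ⁻¹ᵁ U.toOpens) ((p₁ ≫ π) ⁻¹ᵁ U.toOpens) e f) := by
    intro q e e' f
    rw [← CommRingCat.comp_apply, ← CommRingCat.comp_apply, Scheme.Hom.map_appLE, Scheme.Hom.appLE_map]
  have h2 : p₁.appLE (π ⁻¹ᵁ U.toOpens) ((p₁ ≫ π) ⁻¹ᵁ U.toOpens) (le₁ π p₁ U.toOpens) (π.app U.toOpens r) =
      (p₁ ≫ π).app U.toOpens r := by
    rw [← CommRingCat.comp_apply, ← Scheme.Hom.appLE_eq_app, Scheme.Hom.appLE_comp_appLE,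
      ← Scheme.Hom.appLE_eq_app]
  refine eqLocus_away (Z.presheaf.map (homOfLE (π.preimage_mono (M.basicOpen_le r))).op).hom
    (P.presheaf.map (homOfLE ((p₁ ≫ π).preimage_mono (M.basicOpen_le r))).op).hom _ _ _ _
    (h1 p₁ (le₁ π p₁ _) _) (h1 p₂ (le₂ π p₁ p₂ hp _) _) (π.app U.toOpens r) (app_mem (hp := hp) r)
    (_root_.RelSpec.QCAlg.isQC_pushforward π U.toOpens U.2 r) ?_ (resI π p₁ p₂ hp (M.basicOpen_le r)) (fun _ => rfl)
  have h3 := _root_.RelSpec.QCAlg.isQC_pushforward (p₁ ≫ π) U.toOpens U.2 r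
  change letI := (P.presheaf.map (homOfLE ((p₁ ≫ π).preimage_mono (M.basicOpen_le r))).op).hom.toAlgebra
    IsLocalization.Away (p₁.appLE (π ⁻¹ᵁ U.toOpens) ((p₁ ≫ π) ⁻¹ᵁ U.toOpens) (le₁ π p₁ U.toOpens)
      (π.app U.toOpens r)) Γ(P, (p₁ ≫ π) ⁻¹ᵁ M.basicOpen r)
  rw [h2]
  exact h3

theorem coequifibered : (strN π p₁ p₂ hp).Coequifibered := by
  rw [Scheme.AffineZariskiSite.coequifibered_iff_forall_isLocalizationAway]
  intro U r
  exact isLocalization π p₁ p₂ hp U r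

/-- The inclusion of the invariant functions. -/
def sub (U : M.AffineZariskiSite) : (func π p₁ p₂ hp).obj (op U) ⟶ Γ(Z, π ⁻¹ᵁ U.toOpens) :=
  CommRingCat.ofHom (inv π p₁ p₂ hp U.toOpens).subtype

/-- The tautological lifting data. -/
def liftData : RelSpec.LiftData (strN π p₁ p₂ hp) π where
  ψ U := sub π p₁ p₂ hp U
  nat _ := rfl
  comp _ := rfl

/-- The relative spectrum of the invariant functions. -/
abbrev N : Scheme.{u} := RelSpec.obj (coequifibered π p₁ p₂ hp)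

/-- Its structure map. -/
abbrev nu : N π p₁ p₂ hp ⟶ M := RelSpec.toBase (coequifibered π p₁ p₂ hp)

/-- Its charts. -/
abbrev nι (U : M.AffineZariskiSite) : Spec ((func π p₁ p₂ hp).obj (op U)) ⟶ N π p₁ p₂ hp :=
  RelSpec.ι (coequifibered π p₁ p₂ hp) U

/-- The map to the relative spectrum of the invariant functions. -/
def toN : Z ⟶ N π p₁ p₂ hp := RelSpec.lift _ (liftData π p₁ p₂ hp)

theorem toN_nu : toN π p₁ p₂ hp ≫ nu π p₁ p₂ hp = π := RelSpec.lift_toBase _ _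

theorem ι_toN (U : M.AffineZariskiSite) : (π ⁻¹ᵁ U.toOpens).ι ≫ toN π p₁ p₂ hp =
    (π ⁻¹ᵁ U.toOpens).toSpecΓ ≫ Spec.map (sub π p₁ p₂ hp U) ≫ nι π p₁ p₂ hp U :=
  RelSpec.ι_lift _ (liftData π p₁ p₂ hp) U

/-- Restriction of `q ≫ toN` to the preimage of an affine open. -/
theorem q_toN (q : P ⟶ Z) (U : M.AffineZariskiSite)
    (e : (p₁ ≫ π) ⁻¹ᵁ U.toOpens ≤ q ⁻¹ᵁ (π ⁻¹ᵁ U.toOpens)) :
    ((p₁ ≫ π) ⁻¹ᵁ U.toOpens).ι ≫ q ≫ toN π p₁ p₂ hp =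
      ((p₁ ≫ π) ⁻¹ᵁ U.toOpens).toSpecΓ ≫ Spec.map (q.appLE (π ⁻¹ᵁ U.toOpens) ((p₁ ≫ π) ⁻¹ᵁ U.toOpens) e) ≫
        Spec.map (sub π p₁ p₂ hp U) ≫ nι π p₁ p₂ hp U := by
  rw [← Scheme.Hom.resLE_comp_ι_assoc q e, ι_toN, Scheme.Opens.toSpecΓ_SpecMap_appLE_assoc]

theorem toN_inv : p₁ ≫ toN π p₁ p₂ hp = p₂ ≫ toN π p₁ p₂ hp := by
  refine Scheme.Cover.hom_ext (P.openCoverOfIsOpenCover _
    (.comap (iSup_affineOpens_eq_top M) (p₁ ≫ π).base.hom)) _ _ fun U ↦ ?_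
  let U' : M.AffineZariskiSite := ⟨U.1, U.2⟩
  change ((p₁ ≫ π) ⁻¹ᵁ U'.toOpens).ι ≫ p₁ ≫ toN π p₁ p₂ hp = ((p₁ ≫ π) ⁻¹ᵁ U'.toOpens).ι ≫ p₂ ≫ toN π p₁ p₂ hp
  rw [q_toN π p₁ p₂ hp p₁ U' (le₁ π p₁ _), q_toN π p₁ p₂ hp p₂ U' (le₂ π p₁ p₂ hp _)]
  rw [← Spec.map_comp_assoc, ← Spec.map_comp_assoc]
  congr 3
  refine CommRingCat.hom_ext (RingHom.ext fun f => ?_)
  exact f.2

/-- Ring maps to the functions on an open are determined by the maps to the spectrum. -/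
theorem ring_ext {Y : Scheme.{u}} {V : Y.Opens} {R : CommRingCat.{u}} {a b : R ⟶ Γ(Y, V)}
    (h : V.toSpecΓ ≫ Spec.map a = V.toSpecΓ ≫ Spec.map b) : a = b := by
  have h1 := congrArg Scheme.Hom.appTop h
  rw [Scheme.Hom.comp_appTop, Scheme.Hom.comp_appTop, Scheme.Opens.toSpecΓ_appTop] at h1
  have h2 : ∀ c : R ⟶ Γ(Y, V), (Spec.map c).appTop ≫ (Scheme.ΓSpecIso Γ(Y, V)).hom ≫ V.topIso.inv =
      (Scheme.ΓSpecIso R).hom ≫ c ≫ V.topIso.inv := by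
    intro c
    rw [← Category.assoc, Scheme.ΓSpecIso_naturality, Category.assoc]
  rw [h2, h2, cancel_epi, cancel_mono] at h1
  exact h1

/-- **Functions on a categorical quotient.** -/
theorem bijective (hcat : ∀ (N : Scheme.{u}) (ν : N ⟶ M) (h : Z ⟶ N), h ≫ ν = π → p₁ ≫ h = p₂ ≫ h →
    ∃ χ : M ⟶ N, χ ≫ ν = 𝟙 M ∧ π ≫ χ = h) (U : M.Opens) (hU : IsAffineOpen U) :
    Function.Injective (π.app U) ∧ ∀ f ∈ inv π p₁ p₂ hp U, ∃ g, π.app U g = f := by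
  obtain ⟨χ, hχ, hπ⟩ := hcat _ (nu π p₁ p₂ hp) (toN π p₁ p₂ hp) (toN_nu π p₁ p₂ hp) (toN_inv π p₁ p₂ hp)
  let U' : M.AffineZariskiSite := ⟨U, hU⟩
  have hr : Set.range (U.ι ≫ χ) ⊆ Set.range (nι π p₁ p₂ hp U') := by
    have h1 := RelSpec.preimage (coequifibered π p₁ p₂ hp) U'
    rintro _ ⟨x, rfl⟩
    have h2 : (U.ι ≫ χ) x ∈ (RelSpec.ι (coequifibered π p₁ p₂ hp) U').opensRange := by
      rw [← h1]
      change (nu π p₁ p₂ hp) ((U.ι ≫ χ) x) ∈ U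
      rw [← Scheme.Hom.comp_apply, Category.assoc, hχ, Category.comp_id]
      exact x.2
    exact h2
  let w : (U : Scheme.{u}) ⟶ Spec ((func π p₁ p₂ hp).obj (op U')) :=
    IsOpenImmersion.lift (nι π p₁ p₂ hp U') (U.ι ≫ χ) hr
  have hw : w ≫ nι π p₁ p₂ hp U' = U.ι ≫ χ := IsOpenImmersion.lift_fac _ _ _
  let c : (func π p₁ p₂ hp).obj (op U') ⟶ Γ(M, U) := Spec.preimage (hU.isoSpec.inv ≫ w)
  have hc : w = U.toSpecΓ ≫ Spec.map c := by
    rw [Spec.map_preimage, ← Category.assoc, IsAffineOpen.toSpecΓ_isoSpec_inv, Category.id_comp]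
  have h1 : c ≫ π.app U = sub π p₁ p₂ hp U' := by
    apply ring_ext
    rw [Spec.map_comp, Scheme.Opens.toSpecΓ_naturality_assoc, ← hc, ← cancel_mono (nι π p₁ p₂ hp U'),
      Category.assoc, hw, Category.assoc, ← ι_toN π p₁ p₂ hp U', ← hπ, morphismRestrict_ι_assoc]
  let str' : Γ(M, U) ⟶ (func π p₁ p₂ hp).obj (op U') := (strN π p₁ p₂ hp).app (op U')
  have h2 : str' ≫ c = 𝟙 Γ(M, U) := by
    have h3 : U.toSpecΓ ≫ Spec.map (str' ≫ c) ≫ hU.fromSpec = U.ι := by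
      rw [Spec.map_comp, Category.assoc, ← Category.assoc, ← hc]
      have h4 := RelSpec.ι_toBase (coequifibered π p₁ p₂ hp) U'
      change w ≫ Spec.map (RelSpec.str (strN π p₁ p₂ hp) U') ≫ (RelSpec.isAff U').fromSpec = _
      rw [← h4, ← Category.assoc, hw, Category.assoc, hχ, Category.comp_id]
    have h5 : U.toSpecΓ ≫ Spec.map (str' ≫ c) = U.toSpecΓ ≫ Spec.map (𝟙 Γ(M, U)) := by
      rw [← cancel_mono hU.fromSpec, Category.assoc, h3, Spec.map_id, Category.comp_id]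
      exact (IsAffineOpen.toSpecΓ_fromSpec hU).symm
    exact ring_ext h5
  constructor
  · intro g g' hg
    have h6 : str' g = str' g' := Subtype.ext hg
    have h7 := congrArg (fun x => c x) h6
    simp only [← CommRingCat.comp_apply, h2] at h7
    exact h7
  · intro f hf
    refine ⟨c ⟨f, hf⟩, ?_⟩
    rw [← CommRingCat.comp_apply, h1]
    rfl

end Qc

end K367.InvFun
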