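import Groth.Agent.BunMod.K367.InvFun
import Groth.Agent.Fdesc.LocGenPullback

/-!
# Sections of invertible modules on a categorical quotient are the invariant sections

`K367.InvSec.IsInvSheaf π p₁ p₂ hp`: `O_M` is the sheaf of invariant functions.  Then for an invertible module `L` on
`M` and an open `V`, `Γ(V, L)` is the set of invariant sections of `π^*L` over `π⁻¹V`: `K367.InvSec.exists_sec`,
`K367.InvSec.pullSec_injective`.  `pullV π c ρ h σ` is the pull-back of a section of `π^*L` along `c`, as a section of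
`ρ^*L`, where `ρ = c ≫ π`.
-/

set_option autoImplicit false
universe u

open CategoryTheory Limits AlgebraicGeometry Opposite

noncomputable section

namespace K367.InvSec

open Groth.Agent.Fdesc.LocGen K367.InvFun

/-- `O_M` is the sheaf of invariant functions. -/
structure IsInvSheaf {Z P M : Scheme.{u}} (π : Z ⟶ M) (p₁ p₂ : P ⟶ Z) (hp : p₁ ≫ π = p₂ ≫ π) : Prop where
  inj : ∀ U : M.Opens, Function.Injective (π.app U)
  surj : ∀ (U : M.Opens) (f : Γ(Z, π ⁻¹ᵁ U)), f ∈ inv π p₁ p₂ hp U → ∃ g : Γ(M, U), π.app U g = f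

/-- It suffices to look at affine opens. -/
theorem IsInvSheaf.of_affine {Z P M : Scheme.{u}} {π : Z ⟶ M} {p₁ p₂ : P ⟶ Z} {hp : p₁ ≫ π = p₂ ≫ π}
    (h : ∀ U : M.Opens, IsAffineOpen U → Function.Injective (π.app U) ∧
      ∀ f : Γ(Z, π ⁻¹ᵁ U), f ∈ inv π p₁ p₂ hp U → ∃ g : Γ(M, U), π.app U g = f) : IsInvSheaf π p₁ p₂ hp := by
  have hcov : ∀ V : M.Opens, ∃ (ι : Type u) (U : ι → M.Opens), (∀ i, U i ≤ V) ∧ (∀ i, IsAffineOpen (U i)) ∧
      V ≤ ⨆ i, U i := by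
    intro V
    refine ⟨{U : M.Opens // U ≤ V ∧ IsAffineOpen U}, fun i => i.1, fun i => i.2.1, fun i => i.2.2, fun x hx => ?_⟩
    obtain ⟨U, hU, hxU, hUV⟩ := M.isBasis_affineOpens.exists_subset_of_mem_open hx V.2
    obtain ⟨U', rfl⟩ : ∃ U' : M.Opens, (U' : Set M) = U := ⟨⟨U, (M.isBasis_affineOpens).isOpen hU⟩, rfl⟩
    exact TopologicalSpace.Opens.mem_iSup.2 ⟨⟨U', hUV, by
      obtain ⟨U'', hU'', h⟩ := hU
      rwa [← show U'' = U' from TopologicalSpace.Opens.ext h]⟩, hxU⟩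
  have hnat : ∀ {U V : M.Opens} (e : V ≤ U) (g : Γ(M, U)),
      π.app V (ores e g) = ores (π.preimage_mono e) (π.app U g) := by
    intro U V e g
    exact congr($(π.naturality (homOfLE e).op) g)
  have hinj : ∀ V : M.Opens, Function.Injective (π.app V) := by
    intro V a b hab
    obtain ⟨ι, U, hU, hUa, hc⟩ := hcov V
    refine ores_ext U hU hc fun i => (h (U i) (hUa i)).1 ?_
    rw [hnat, hnat, hab]
  refine ⟨hinj, fun V f hf => ?_⟩
  obtain ⟨ι, U, hU, hUa, hc⟩ := hcov V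
  have h1 : ∀ i, ores (π.preimage_mono (hU i)) f ∈ inv π p₁ p₂ hp (U i) := fun i => res_mem (hU i) hf
  choose g hg using fun i => (h (U i) (hUa i)).2 _ (h1 i)
  obtain ⟨t, ht⟩ := ores_glue U hU hc g fun i j => hinj _ (by
    rw [hnat, hnat, hg, hg, ores_ores, ores_ores])
  refine ⟨t, ores_ext (V := π ⁻¹ᵁ V) (fun i => π ⁻¹ᵁ (U i)) (fun i => π.preimage_mono (hU i)) ?_ fun i => ?_⟩
  · intro x hx
    obtain ⟨i, hi⟩ := TopologicalSpace.Opens.mem_iSup.1 (hc hx)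
    exact TopologicalSpace.Opens.mem_iSup.2 ⟨i, hi⟩
  · rw [← hnat (hU i), ht, hg]

section pullV

variable {Z M T : Scheme.{u}} (π : Z ⟶ M)

/-- Pull-back of a section of `π^*L` along `c`, as a section of `ρ^*L`, `ρ = c ≫ π`. -/
def pullV (c : T ⟶ Z) (ρ : T ⟶ M) (h : c ≫ π = ρ) {L : M.Modules} {V : M.Opens}
    (σ : Γ((Scheme.Modules.pullback π).obj L, π ⁻¹ᵁ V)) : Γ((Scheme.Modules.pullback ρ).obj L, ρ ⁻¹ᵁ V) := by
  subst h
  exact ((Scheme.Modules.pullbackComp c π).hom.app L).app (c ⁻¹ᵁ (π ⁻¹ᵁ V)) (pullSec c σ)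

variable {π}

theorem pullV_rfl (c : T ⟶ Z) {L : M.Modules} {V : M.Opens}
    (σ : Γ((Scheme.Modules.pullback π).obj L, π ⁻¹ᵁ V)) : pullV π c (c ≫ π) rfl σ =
      ((Scheme.Modules.pullbackComp c π).hom.app L).app (c ⁻¹ᵁ (π ⁻¹ᵁ V)) (pullSec c σ) := rfl

theorem pullV_pullSec (c : T ⟶ Z) (ρ : T ⟶ M) (h : c ≫ π = ρ) {L : M.Modules} {V : M.Opens} (τ : Γ(L, V)) :
    pullV π c ρ h (pullSec π τ) = pullSec ρ τ := by
  subst h
  exact pullSec_comp' c π τ

theorem pullV_add (c : T ⟶ Z) (ρ : T ⟶ M) (h : c ≫ π = ρ) {L : M.Modules} {V : M.Opens}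
    (σ σ' : Γ((Scheme.Modules.pullback π).obj L, π ⁻¹ᵁ V)) :
    pullV π c ρ h (σ + σ') = pullV π c ρ h σ + pullV π c ρ h σ' := by
  subst h
  rw [pullV_rfl, pullV_rfl, pullV_rfl, pullSec_add]
  exact map_add (((Scheme.Modules.pullbackComp c π).hom.app L).app (c ⁻¹ᵁ (π ⁻¹ᵁ V))).hom _ _

theorem pre_le (c : T ⟶ Z) (ρ : T ⟶ M) (h : c ≫ π = ρ) (V : M.Opens) : ρ ⁻¹ᵁ V ≤ c ⁻¹ᵁ (π ⁻¹ᵁ V) := by
  subst h
  exact le_rfl

theorem pullV_smul (c : T ⟶ Z) (ρ : T ⟶ M) (h : c ≫ π = ρ) {L : M.Modules} {V : M.Opens} (a : Γ(Z, π ⁻¹ᵁ V))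
    (σ : Γ((Scheme.Modules.pullback π).obj L, π ⁻¹ᵁ V)) :
    pullV π c ρ h (a • σ) = (c.appLE (π ⁻¹ᵁ V) (ρ ⁻¹ᵁ V) (pre_le c ρ h V) a : Γ(T, ρ ⁻¹ᵁ V)) • pullV π c ρ h σ := by
  subst h
  rw [pullV_rfl, pullV_rfl, pullSec_smul, Scheme.Modules.Hom.app_smul]
  have h1 : c.appLE (π ⁻¹ᵁ V) ((c ≫ π) ⁻¹ᵁ V) (pre_le c (c ≫ π) rfl V) = c.app (π ⁻¹ᵁ V) :=
    Scheme.Hom.appLE_eq_app _
  rw [h1]
  rfl

theorem pullV_res (c : T ⟶ Z) (ρ : T ⟶ M) (h : c ≫ π = ρ) {L : M.Modules} {V W : M.Opens} (e : W ≤ V)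
    (σ : Γ((Scheme.Modules.pullback π).obj L, π ⁻¹ᵁ V)) :
    pullV π c ρ h (res _ (π.preimage_mono e) σ : Γ((Scheme.Modules.pullback π).obj L, π ⁻¹ᵁ W)) =
      res _ (ρ.preimage_mono e) (pullV π c ρ h σ) := by
  subst h
  rw [pullV_rfl, pullV_rfl, ← res_pullSec]
  exact app_res _ _ _

theorem pullV_eq (c : T ⟶ Z) (ρ : T ⟶ M) (h : c ≫ π = ρ) {L : M.Modules} {V : M.Opens}
    (σ : Γ((Scheme.Modules.pullback π).obj L, π ⁻¹ᵁ V)) (e₁ : ρ ⁻¹ᵁ V ≤ (c ≫ π) ⁻¹ᵁ V)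
    (e₂ : Scheme.Modules.pullback (c ≫ π) = Scheme.Modules.pullback ρ) :
    pullV π c ρ h σ = res _ e₁ (((eqToHom e₂).app L).app ((c ≫ π) ⁻¹ᵁ V) (pullV π c (c ≫ π) rfl σ)) := by
  subst h
  rw [eqToHom_refl]
  exact (res_refl _ _).symm

/-- Iterated pull-back. -/
theorem pullV_pullV {T' : Scheme.{u}} (c : T ⟶ Z) (ρ : T ⟶ M) (h : c ≫ π = ρ) (g : T' ⟶ T) (ρ' : T' ⟶ M)
    (h' : g ≫ ρ = ρ') {L : M.Modules} {V : M.Opens} (σ : Γ((Scheme.Modules.pullback π).obj L, π ⁻¹ᵁ V)) :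
    pullV ρ g ρ' h' (pullV π c ρ h σ) = pullV π (g ≫ c) ρ' (by rw [Category.assoc, h, h']) σ := by
  subst h
  subst h'
  rw [pullV_eq (g ≫ c) (g ≫ c ≫ π) _ σ le_rfl (by rw [Category.assoc]), pullV_rfl, pullV_rfl, pullV_rfl]
  have h1 := congr(($(Scheme.Modules.pseudofunctor_associativity g c π)).app L)
  simp only [NatTrans.comp_app, Functor.whiskerRight_app, Functor.whiskerLeft_app, Functor.associator_hom_app] at h1
  have h2 : ((Scheme.Modules.pullback g).map ((Scheme.Modules.pullbackComp c π).hom.app L)) ≫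
      (Scheme.Modules.pullbackComp g (c ≫ π)).hom.app L =
      (Scheme.Modules.pullbackComp g c).hom.app ((Scheme.Modules.pullback π).obj L) ≫
        (Scheme.Modules.pullbackComp (g ≫ c) π).hom.app L ≫
        (eqToHom (by rw [Category.assoc] : Scheme.Modules.pullback ((g ≫ c) ≫ π) =
          Scheme.Modules.pullback (g ≫ c ≫ π))).app L := by
    have h3 : (Scheme.Modules.pullbackComp g (c ≫ π)).inv.app L ≫
        (Scheme.Modules.pullback g).map ((Scheme.Modules.pullbackComp c π).inv.app L) ≫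
        (Scheme.Modules.pullbackComp g c).hom.app ((Scheme.Modules.pullback π).obj L) ≫
        (Scheme.Modules.pullbackComp (g ≫ c) π).hom.app L =
        (eqToHom (by rw [Category.assoc] : Scheme.Modules.pullback (g ≫ c ≫ π) =
          Scheme.Modules.pullback ((g ≫ c) ≫ π))).app L := by
      rw [← h1]
      rfl
    have h4 : (eqToHom (by rw [Category.assoc] : Scheme.Modules.pullback (g ≫ c ≫ π) =
          Scheme.Modules.pullback ((g ≫ c) ≫ π))).app L ≫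
          (eqToHom (by rw [Category.assoc] : Scheme.Modules.pullback ((g ≫ c) ≫ π) =
          Scheme.Modules.pullback (g ≫ c ≫ π))).app L = 𝟙 _ := by
      rw [← NatTrans.comp_app, eqToHom_trans, eqToHom_refl]
      rfl
    rw [← h3] at h4
    simp only [Category.assoc] at h4
    rw [← cancel_epi ((Scheme.Modules.pullback g).map ((Scheme.Modules.pullbackComp c π).inv.app L)),
      ← cancel_epi ((Scheme.Modules.pullbackComp g (c ≫ π)).inv.app L), h4,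
      ← Functor.map_comp_assoc, Iso.inv_hom_id_app]
    simp
  refine Eq.trans ?_ (res_refl _ _).symm
  have h5 := pullback_map_pullSec g ((Scheme.Modules.pullbackComp c π).hom.app L) (pullSec c σ)
  have h6 := pullSec_comp' g c σ
  refine (congrArg (((Scheme.Modules.pullbackComp g (c ≫ π)).hom.app L).app (g ⁻¹ᵁ ((c ≫ π) ⁻¹ᵁ V))) h5.symm).trans ?_
  refine Eq.trans ?_ (congrArg (fun y => (((eqToHom (by rw [Category.assoc] : Scheme.Modules.pullback ((g ≫ c) ≫ π) =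
          Scheme.Modules.pullback (g ≫ c ≫ π))).app L).app (((g ≫ c) ≫ π) ⁻¹ᵁ V))
      (((Scheme.Modules.pullbackComp (g ≫ c) π).hom.app L).app ((g ≫ c) ⁻¹ᵁ (π ⁻¹ᵁ V)) y)) h6)
  exact congr(($h2).app (g ⁻¹ᵁ (c ⁻¹ᵁ (π ⁻¹ᵁ V))) (pullSec g (pullSec c σ)))

end pullV

section Desc

variable {Z P M : Scheme.{u}} {π : Z ⟶ M} {p₁ p₂ : P ⟶ Z} {hp : p₁ ≫ π = p₂ ≫ π}

/-- Sections of `L` inject into sections of `π^*L`. -/
theorem pullSec_injective (H : IsInvSheaf π p₁ p₂ hp) {L : M.Modules} (hL : PicF.IsInvertible L) {V : M.Opens} :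
    Function.Injective (fun τ : Γ(L, V) => pullSec π τ) := by
  intro a b hab
  rw [isInvertible_iff] at hL
  choose U e hx he using hL
  refine res_ext L (V := V) (fun x : M => U x ⊓ V) (fun _ => inf_le_right)
    (fun x hxV => TopologicalSpace.Opens.mem_iSup.2 ⟨x, hx x, hxV⟩) fun x => ?_
  have hg := (he x).res (inf_le_left : U x ⊓ V ≤ U x)
  obtain ⟨α, hα⟩ := hg.exists_eq (res L inf_le_right a)
  obtain ⟨β, hβ⟩ := hg.exists_eq (res L inf_le_right b)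
  have h1 : pullSec π (res L (inf_le_right : U x ⊓ V ≤ V) a) = pullSec π (res L inf_le_right b) := by
    rw [← res_pullSec, ← res_pullSec]
    exact congrArg _ hab
  rw [hα, hβ, pullSec_smul, pullSec_smul] at h1
  rw [hα, hβ, H.inj _ ((hg.pullSec π).ext h1)]

/-- **Invariant sections descend.** -/
theorem exists_sec (H : IsInvSheaf π p₁ p₂ hp) {L : M.Modules} (hL : PicF.IsInvertible L) {V : M.Opens}
    (σ : Γ((Scheme.Modules.pullback π).obj L, π ⁻¹ᵁ V))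
    (hσ : pullV π p₁ (p₁ ≫ π) rfl σ = pullV π p₂ (p₁ ≫ π) hp.symm σ) : ∃ τ : Γ(L, V), pullSec π τ = σ := by
  have hL' := hL
  rw [isInvertible_iff] at hL
  choose U e hx he using hL
  have hg := fun x => (he x).res (inf_le_left : U x ⊓ V ≤ U x)
  let e' : ∀ x, Γ(L, U x ⊓ V) := fun x => res L inf_le_left (e x)
  have hfi : ∀ x, ∃ g : Γ(M, U x ⊓ V), res _ (π.preimage_mono (inf_le_right : U x ⊓ V ≤ V)) σ =
      pullSec π (g • e' x) := by
    intro x
    obtain ⟨f, hf⟩ := ((hg x).pullSec π).exists_eq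
      (res _ (π.preimage_mono (inf_le_right : U x ⊓ V ≤ V)) σ)
    have h1 : f ∈ inv π p₁ p₂ hp (U x ⊓ V) := by
      rw [mem_inv]
      refine ((hg x).pullSec (p₁ ≫ π)).ext ?_
      have h2 := congrArg (res _ ((p₁ ≫ π).preimage_mono (inf_le_right : U x ⊓ V ≤ V))) hσ
      rw [← pullV_res p₁ (p₁ ≫ π) rfl (inf_le_right : U x ⊓ V ≤ V),
        ← pullV_res p₂ (p₁ ≫ π) hp.symm (inf_le_right : U x ⊓ V ≤ V)] at h2
      erw [hf] at h2
      rw [pullV_smul, pullV_smul, pullV_pullSec, pullV_pullSec] at h2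
      exact h2
    obtain ⟨g, hg'⟩ := H.surj _ f h1
    refine ⟨g, ?_⟩
    rw [hf, pullSec_smul, hg']
  choose g hgi using hfi
  obtain ⟨t, ht⟩ := res_glue L (V := V) (fun x : M => U x ⊓ V) (fun _ => inf_le_right)
    (fun x hxV => TopologicalSpace.Opens.mem_iSup.2 ⟨x, hx x, hxV⟩) (fun x => g x • e' x) fun x y => by
      refine pullSec_injective H hL' ?_
      change pullSec π _ = pullSec π _
      rw [← res_pullSec, ← res_pullSec]
      erw [← hgi x, ← hgi y]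
      rw [res_res, res_res]
  refine ⟨t, ?_⟩
  refine res_ext _ (V := π ⁻¹ᵁ V) (fun x : M => π ⁻¹ᵁ (U x ⊓ V)) (fun _ => π.preimage_mono inf_le_right)
    (fun z hz => TopologicalSpace.Opens.mem_iSup.2 ⟨π z, hx _, hz⟩) fun x => ?_
  rw [res_pullSec π (inf_le_right : U x ⊓ V ≤ V), ht]
  exact (hgi x).symm

/-- `O_M` is the sheaf of functions invariant for a family of pairs `p₁ i, p₂ i : P i ⟶ Z`. -/
structure IsInvFam {Z M : Scheme.{u}} (π : Z ⟶ M) {I : Type*} {P : I → Scheme.{u}} (p₁ p₂ : ∀ i, P i ⟶ Z)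
    (hp : ∀ i, p₁ i ≫ π = p₂ i ≫ π) : Prop where
  inj : ∀ U : M.Opens, Function.Injective (π.app U)
  surj : ∀ (U : M.Opens) (f : Γ(Z, π ⁻¹ᵁ U)), (∀ i, f ∈ inv π (p₁ i) (p₂ i) (hp i) U) → ∃ g : Γ(M, U), π.app U g = f

/-- A single pair as a family. -/
theorem IsInvSheaf.fam (H : IsInvSheaf π p₁ p₂ hp) :
    IsInvFam π (fun _ : Unit => p₁) (fun _ => p₂) (fun _ => hp) :=
  ⟨H.inj, fun U f hf => H.surj U f (hf ())⟩

/-- It suffices to look at affine opens. -/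
theorem IsInvFam.of_affine {I : Type*} {P : I → Scheme.{u}} {p₁ p₂ : ∀ i, P i ⟶ Z}
    {hp : ∀ i, p₁ i ≫ π = p₂ i ≫ π}
    (h : ∀ U : M.Opens, IsAffineOpen U → Function.Injective (π.app U) ∧
      ∀ f : Γ(Z, π ⁻¹ᵁ U), (∀ i, f ∈ inv π (p₁ i) (p₂ i) (hp i) U) → ∃ g : Γ(M, U), π.app U g = f) :
    IsInvFam π p₁ p₂ hp := by
  have hcov : ∀ V : M.Opens, ∃ (ι : Type u) (U : ι → M.Opens), (∀ i, U i ≤ V) ∧ (∀ i, IsAffineOpen (U i)) ∧
      V ≤ ⨆ i, U i := by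
    intro V
    refine ⟨{U : M.Opens // U ≤ V ∧ IsAffineOpen U}, fun i => i.1, fun i => i.2.1, fun i => i.2.2, fun x hx => ?_⟩
    obtain ⟨U, hU, hxU, hUV⟩ := M.isBasis_affineOpens.exists_subset_of_mem_open hx V.2
    obtain ⟨U', rfl⟩ : ∃ U' : M.Opens, (U' : Set M) = U := ⟨⟨U, (M.isBasis_affineOpens).isOpen hU⟩, rfl⟩
    exact TopologicalSpace.Opens.mem_iSup.2 ⟨⟨U', hUV, by
      obtain ⟨U'', hU'', h⟩ := hU
      rwa [← show U'' = U' from TopologicalSpace.Opens.ext h]⟩, hxU⟩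
  have hnat : ∀ {U V : M.Opens} (e : V ≤ U) (g : Γ(M, U)),
      π.app V (ores e g) = ores (π.preimage_mono e) (π.app U g) := by
    intro U V e g
    exact congr($(π.naturality (homOfLE e).op) g)
  have hinj : ∀ V : M.Opens, Function.Injective (π.app V) := by
    intro V a b hab
    obtain ⟨ι, U, hU, hUa, hc⟩ := hcov V
    refine ores_ext U hU hc fun i => (h (U i) (hUa i)).1 ?_
    rw [hnat, hnat, hab]
  refine ⟨hinj, fun V f hf => ?_⟩
  obtain ⟨ι, U, hU, hUa, hc⟩ := hcov V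
  have h1 : ∀ i j, ores (π.preimage_mono (hU i)) f ∈ inv π (p₁ j) (p₂ j) (hp j) (U i) :=
    fun i j => res_mem (hU i) (hf j)
  choose g hg using fun i => (h (U i) (hUa i)).2 _ (h1 i)
  obtain ⟨t, ht⟩ := ores_glue U hU hc g fun i j => hinj _ (by
    rw [hnat, hnat, hg, hg, ores_ores, ores_ores])
  refine ⟨t, ores_ext (V := π ⁻¹ᵁ V) (fun i => π ⁻¹ᵁ (U i)) (fun i => π.preimage_mono (hU i)) ?_ fun i => ?_⟩
  · intro x hx
    obtain ⟨i, hi⟩ := TopologicalSpace.Opens.mem_iSup.1 (hc hx)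
    exact TopologicalSpace.Opens.mem_iSup.2 ⟨i, hi⟩
  · rw [← hnat (hU i), ht, hg]

/-- Sections of `L` inject into sections of `π^*L` when functions do. -/
theorem pullSec_injective' (H : ∀ U : M.Opens, Function.Injective (π.app U)) {L : M.Modules}
    (hL : PicF.IsInvertible L) {V : M.Opens} :
    Function.Injective (fun τ : Γ(L, V) => pullSec π τ) := by
  intro a b hab
  rw [isInvertible_iff] at hL
  choose U e hx he using hL
  refine res_ext L (V := V) (fun x : M => U x ⊓ V) (fun _ => inf_le_right)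
    (fun x hxV => TopologicalSpace.Opens.mem_iSup.2 ⟨x, hx x, hxV⟩) fun x => ?_
  have hg := (he x).res (inf_le_left : U x ⊓ V ≤ U x)
  obtain ⟨α, hα⟩ := hg.exists_eq (res L inf_le_right a)
  obtain ⟨β, hβ⟩ := hg.exists_eq (res L inf_le_right b)
  have h1 : pullSec π (res L (inf_le_right : U x ⊓ V ≤ V) a) = pullSec π (res L inf_le_right b) := by
    rw [← res_pullSec, ← res_pullSec]
    exact congrArg _ hab
  rw [hα, hβ, pullSec_smul, pullSec_smul] at h1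
  rw [hα, hβ, H _ ((hg.pullSec π).ext h1)]

/-- **Invariant sections descend**, for a family of pairs. -/
theorem IsInvFam.exists_sec {I : Type*} {P : I → Scheme.{u}} {p₁ p₂ : ∀ i, P i ⟶ Z}
    {hp : ∀ i, p₁ i ≫ π = p₂ i ≫ π} (H : IsInvFam π p₁ p₂ hp) {L : M.Modules} (hL : PicF.IsInvertible L)
    {V : M.Opens} (σ : Γ((Scheme.Modules.pullback π).obj L, π ⁻¹ᵁ V))
    (hσ : ∀ i, pullV π (p₁ i) (p₁ i ≫ π) rfl σ = pullV π (p₂ i) (p₁ i ≫ π) (hp i).symm σ) :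
    ∃ τ : Γ(L, V), pullSec π τ = σ := by
  have hL' := hL
  rw [isInvertible_iff] at hL
  choose U e hx he using hL
  have hg := fun x => (he x).res (inf_le_left : U x ⊓ V ≤ U x)
  let e' : ∀ x, Γ(L, U x ⊓ V) := fun x => res L inf_le_left (e x)
  have hfi : ∀ x, ∃ g : Γ(M, U x ⊓ V), res _ (π.preimage_mono (inf_le_right : U x ⊓ V ≤ V)) σ =
      pullSec π (g • e' x) := by
    intro x
    obtain ⟨f, hf⟩ := ((hg x).pullSec π).exists_eq
      (res _ (π.preimage_mono (inf_le_right : U x ⊓ V ≤ V)) σ)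
    have h1 : ∀ i, f ∈ inv π (p₁ i) (p₂ i) (hp i) (U x ⊓ V) := by
      intro i
      rw [mem_inv]
      refine ((hg x).pullSec (p₁ i ≫ π)).ext ?_
      have h2 := congrArg (res _ ((p₁ i ≫ π).preimage_mono (inf_le_right : U x ⊓ V ≤ V))) (hσ i)
      rw [← pullV_res (p₁ i) (p₁ i ≫ π) rfl (inf_le_right : U x ⊓ V ≤ V),
        ← pullV_res (p₂ i) (p₁ i ≫ π) (hp i).symm (inf_le_right : U x ⊓ V ≤ V)] at h2
      erw [hf] at h2
      rw [pullV_smul, pullV_smul, pullV_pullSec, pullV_pullSec] at h2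
      exact h2
    obtain ⟨g, hg'⟩ := H.surj _ f h1
    refine ⟨g, ?_⟩
    rw [hf, pullSec_smul, hg']
  choose g hgi using hfi
  obtain ⟨t, ht⟩ := res_glue L (V := V) (fun x : M => U x ⊓ V) (fun _ => inf_le_right)
    (fun x hxV => TopologicalSpace.Opens.mem_iSup.2 ⟨x, hx x, hxV⟩) (fun x => g x • e' x) fun x y => by
      refine pullSec_injective' H.inj hL' ?_
      change pullSec π _ = pullSec π _
      rw [← res_pullSec, ← res_pullSec]
      erw [← hgi x, ← hgi y]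
      rw [res_res, res_res]
  refine ⟨t, ?_⟩
  refine res_ext _ (V := π ⁻¹ᵁ V) (fun x : M => π ⁻¹ᵁ (U x ⊓ V)) (fun _ => π.preimage_mono inf_le_right)
    (fun z hz => TopologicalSpace.Opens.mem_iSup.2 ⟨π z, hx _, hz⟩) fun x => ?_
  rw [res_pullSec π (inf_le_right : U x ⊓ V ≤ V), ht]
  exact (hgi x).symm

end Desc

end K367.InvSec
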