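import Groth.Prelude.Def_BlowUp2
import Mathlib.AlgebraicGeometry.FunctionField
import Mathlib.AlgebraicGeometry.IdealSheaf.Functorial
import Mathlib.AlgebraicGeometry.Noetherian
import Mathlib.RingTheory.Ideal.KrullsHeightTheorem

/-!
# Locally principal ideals on integral schemes

* `exists_generization`: Krull's principal ideal theorem as a statement on generizations;
* `le_mul`, `le_prod`: an ideal contained in the (locally principal, prime) ideals of distinct irreducible closed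
  subsets is contained in their product.
-/

set_option autoImplicit false
universe u

open CategoryTheory CategoryTheory.Limits AlgebraicGeometry TopologicalSpace

namespace K367.Krull

variable {Y : Scheme.{u}}

/-- Locally principal ideal. -/
def LocPrin (I : Y.IdealSheafData) : Prop :=
  ∀ x : Y, ∃ U : Y.affineOpens, x ∈ U.1 ∧ ∃ f : Γ(Y, U.1), I.ideal U = Ideal.span {f}

theorem mem_basicOpen_iff {U : Y.Opens} (hU : IsAffineOpen U) (y : Y) (hy : y ∈ U) (g : Γ(Y, U)) :
    y ∈ Y.basicOpen g ↔ g ∉ (hU.primeIdealOf ⟨y, hy⟩).asIdeal := by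
  have h3 := hU.fromSpec_primeIdealOf ⟨y, hy⟩
  have h4 : hU.primeIdealOf ⟨y, hy⟩ ∈ hU.fromSpec ⁻¹ᵁ Y.basicOpen g ↔
      hU.primeIdealOf ⟨y, hy⟩ ∈ PrimeSpectrum.basicOpen g := by
    rw [hU.fromSpec_preimage_basicOpen]
    rfl
  have h5 : hU.primeIdealOf ⟨y, hy⟩ ∈ hU.fromSpec ⁻¹ᵁ Y.basicOpen g ↔ y ∈ Y.basicOpen g := by
    change hU.fromSpec (hU.primeIdealOf ⟨y, hy⟩) ∈ Y.basicOpen g ↔ _
    rw [h3]
  rw [← h5, h4]
  rfl

theorem mem_support_iff (θ : Y.IdealSheafData) (U : Y.affineOpens) (y : Y) (hy : y ∈ U.1) :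
    y ∈ (θ.support : Set Y) ↔ θ.ideal U ≤ (U.2.primeIdealOf ⟨y, hy⟩).asIdeal := by
  have h1 : y ∈ (θ.support : Set Y) ↔ y ∈ Y.zeroLocus (U := U.1) (θ.ideal U) :=
    Scheme.IdealSheafData.mem_support_iff_of_mem hy
  rw [h1, Scheme.mem_zeroLocus_iff]
  constructor
  · intro h g hg
    have h3 := h g hg
    rw [mem_basicOpen_iff U.2 y hy, not_not] at h3
    exact h3
  · intro h g hg
    rw [mem_basicOpen_iff U.2 y hy, not_not]
    exact h hg

/-- A principal ideal stays principal on a basic open subset. -/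
theorem gen_basicOpen {I : Y.IdealSheafData} {U : Y.affineOpens} {f : Γ(Y, U.1)} (hf : I.ideal U = Ideal.span {f})
    {V : Y.affineOpens} (h : V ≤ U) :
    I.ideal V = Ideal.span {(Y.presheaf.map (homOfLE (show V.1 ≤ U.1 from h)).op).hom f} := by
  rw [← I.map_ideal h, hf, Ideal.map_span, Set.image_singleton]
  rfl

/-- Two locally principal ideals are principal on a common affine neighbourhood. -/
theorem LocPrin.exists_common {I J : Y.IdealSheafData} (hI : LocPrin I) (hJ : LocPrin J) (x : Y) :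
    ∃ U : Y.affineOpens, x ∈ U.1 ∧ (∃ f : Γ(Y, U.1), I.ideal U = Ideal.span {f}) ∧
      ∃ g : Γ(Y, U.1), J.ideal U = Ideal.span {g} := by
  obtain ⟨U, hxU, f, hf⟩ := hI x
  obtain ⟨V, hxV, g, hg⟩ := hJ x
  obtain ⟨_, ⟨W, hW, rfl⟩, hxW, hWUV⟩ := Y.isBasis_affineOpens.exists_subset_of_mem_open
    (show x ∈ (U.1 ⊓ V.1 : Y.Opens) from ⟨hxU, hxV⟩) (U.1 ⊓ V.1).isOpen
  have h1 : (⟨W, hW⟩ : Y.affineOpens) ≤ U := fun y hy => (hWUV hy).1
  have h2 : (⟨W, hW⟩ : Y.affineOpens) ≤ V := fun y hy => (hWUV hy).2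
  exact ⟨⟨W, hW⟩, hxW, ⟨_, gen_basicOpen hf h1⟩, ⟨_, gen_basicOpen hg h2⟩⟩

theorem LocPrin.mul {I J : Y.IdealSheafData} (hI : LocPrin I) (hJ : LocPrin J) : LocPrin (I * J) := by
  intro x
  obtain ⟨U, hU, ⟨f, hf⟩, g, hg⟩ := hI.exists_common hJ x
  refine ⟨U, hU, f * g, ?_⟩
  rw [Scheme.IdealSheafData.ideal_mul, Pi.mul_apply, hf, hg, Ideal.span_singleton_mul_span_singleton]

theorem LocPrin.one : LocPrin (1 : Y.IdealSheafData) := by
  intro x
  obtain ⟨_, ⟨W, hW, rfl⟩, hxW, -⟩ := Y.isBasis_affineOpens.exists_subset_of_mem_open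
    (show x ∈ (⊤ : Y.Opens) from trivial) (⊤ : Y.Opens).isOpen
  refine ⟨⟨W, hW⟩, hxW, 1, ?_⟩
  rw [Ideal.span_singleton_one]
  rfl

theorem LocPrin.prod {ι : Type*} (s : Finset ι) {I : ι → Y.IdealSheafData} (h : ∀ i ∈ s, LocPrin (I i)) :
    LocPrin (∏ i ∈ s, I i) := by
  classical
  induction s using Finset.induction_on with
  | empty => exact LocPrin.one
  | insert a s ha ih =>
    rw [Finset.prod_insert ha]
    exact (h a (Finset.mem_insert_self a s)).mul (ih fun i hi => h i (Finset.mem_insert_of_mem hi))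

theorem LocPrin.of_isEff {I : Y.IdealSheafData} (h : BlowUp.IsEffCartierIdeal I) : LocPrin I := by
  intro x
  obtain ⟨U, hU, f, -, hf⟩ := h x
  exact ⟨U, hU, f, hf⟩

/-- **Krull's principal ideal theorem.** -/
theorem exists_generization [IsIntegral Y] [IsLocallyNoetherian Y] {I : Y.IdealSheafData} (hI : LocPrin I) {x : Y}
    (hx : x ∈ (I.support : Set Y)) :
    ∃ y ∈ (I.support : Set Y), y ⤳ x ∧ ∀ z, z ⤳ y → z = y ∨ z = genericPoint Y := by
  obtain ⟨U, hxU, f, hf⟩ := hI x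
  have hN : IsNoetherianRing Γ(Y, U.1) := IsLocallyNoetherian.component_noetherian U
  have hne : Nonempty U.1 := ⟨⟨x, hxU⟩⟩
  rw [mem_support_iff I U x hxU, hf] at hx
  obtain ⟨q, hq, hqx⟩ := Ideal.exists_minimalPrimes_le hx
  have hqp : q.IsPrime := hq.1.1
  have hh : q.height ≤ 1 := Ideal.height_le_one_of_isPrincipal_of_mem_minimalPrimes (Ideal.span {f}) q hq
  let q' : PrimeSpectrum Γ(Y, U.1) := ⟨q, hqp⟩
  have hemb := U.2.fromSpec.isOpenEmbedding
  have hyU : U.2.fromSpec q' ∈ U.1 := by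
    have h1 : U.2.fromSpec q' ∈ Set.range U.2.fromSpec := ⟨_, rfl⟩
    rwa [U.2.range_fromSpec] at h1
  have hpr : ∀ (p : PrimeSpectrum Γ(Y, U.1)) (hp : U.2.fromSpec p ∈ U.1), U.2.primeIdealOf ⟨U.2.fromSpec p, hp⟩ = p := by
    intro p hp
    apply hemb.injective
    exact U.2.fromSpec_primeIdealOf ⟨U.2.fromSpec p, hp⟩
  refine ⟨U.2.fromSpec q', ?_, ?_, ?_⟩
  · rw [mem_support_iff I U _ hyU, hpr q' hyU, hf]
    exact hq.1.2
  · have h1 : U.2.fromSpec q' ⤳ U.2.fromSpec (U.2.primeIdealOf ⟨x, hxU⟩) := by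
      rw [hemb.toIsInducing.specializes_iff]
      exact (PrimeSpectrum.le_iff_specializes q' _).1 hqx
    rwa [U.2.fromSpec_primeIdealOf ⟨x, hxU⟩] at h1
  · intro z hz
    have hzU : z ∈ U.1 := hz.mem_open U.1.isOpen hyU
    have h1 := U.2.fromSpec_primeIdealOf ⟨z, hzU⟩
    have h2 : U.2.primeIdealOf ⟨z, hzU⟩ ≤ q' := by
      refine (PrimeSpectrum.le_iff_specializes _ _).2 (hemb.toIsInducing.specializes_iff.1 ?_)
      rw [h1]
      exact hz
    rcases h2.eq_or_lt with h3 | h3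
    · left
      rw [← h3]
      exact h1.symm
    · right
      have h4 : (U.2.primeIdealOf ⟨z, hzU⟩).asIdeal.height < 1 := by
        have : q.FiniteHeight := ⟨Or.inr (ne_top_of_le_ne_top (by simp) hh)⟩
        have : (U.2.primeIdealOf ⟨z, hzU⟩).asIdeal.FiniteHeight := Ideal.finiteHeight_of_le h3.le hqp.ne_top
        have h8 : (U.2.primeIdealOf ⟨z, hzU⟩).asIdeal < q := h3
        exact (Ideal.height_strict_mono_of_isPrime h8).trans_le hh
      have h5 : (U.2.primeIdealOf ⟨z, hzU⟩).asIdeal = ⊥ := by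
        rw [← Ideal.height_eq_zero_iff_eq_bot]
        exact Order.lt_one_iff.1 h4
      have h6 : genericPoint (Spec Γ(Y, U.1)) = U.2.primeIdealOf ⟨z, hzU⟩ := by
        rw [genericPoint_eq_bot_of_affine]
        exact PrimeSpectrum.ext h5.symm
      have h7 := genericPoint_eq_of_isOpenImmersion U.2.fromSpec
      rw [← h7, h6]
      exact h1.symm

theorem fromSpec_mem {U : Y.Opens} (hU : IsAffineOpen U) (p : PrimeSpectrum Γ(Y, U)) : hU.fromSpec p ∈ U := by
  have h1 : hU.fromSpec p ∈ Set.range hU.fromSpec := ⟨_, rfl⟩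
  rwa [hU.range_fromSpec] at h1

theorem primeIdealOf_fromSpec {U : Y.Opens} (hU : IsAffineOpen U) (p : PrimeSpectrum Γ(Y, U)) :
    hU.primeIdealOf ⟨hU.fromSpec p, fromSpec_mem hU p⟩ = p :=
  hU.fromSpec.isOpenEmbedding.injective (hU.fromSpec_primeIdealOf ⟨hU.fromSpec p, fromSpec_mem hU p⟩)

theorem primeIdealOf_le_iff {U : Y.Opens} (hU : IsAffineOpen U) (x y : Y) (hx : x ∈ U) (hy : y ∈ U) :
    (hU.primeIdealOf ⟨x, hx⟩).asIdeal ≤ (hU.primeIdealOf ⟨y, hy⟩).asIdeal ↔ x ⤳ y := by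
  have h1 := hU.fromSpec_primeIdealOf ⟨x, hx⟩
  have h2 := hU.fromSpec_primeIdealOf ⟨y, hy⟩
  have h3 := hU.fromSpec.isOpenEmbedding.toIsInducing.specializes_iff (x := hU.primeIdealOf ⟨x, hx⟩)
    (y := hU.primeIdealOf ⟨y, hy⟩)
  rw [h1, h2] at h3
  exact (PrimeSpectrum.le_iff_specializes _ _).trans h3.symm

section van

variable {S : Closeds Y} {ξ : Y} (hξ : closure {ξ} = (S : Set Y))

include hξ in
/-- The vanishing ideal of an irreducible closed subset is the prime ideal of its generic point. -/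
theorem vanishingIdeal_ideal_eq (U : Y.affineOpens) (hU : ξ ∈ U.1) :
    (Scheme.IdealSheafData.vanishingIdeal S).ideal U = (U.2.primeIdealOf ⟨ξ, hU⟩).asIdeal := by
  have h0 : (Scheme.IdealSheafData.vanishingIdeal S).ideal U =
      PrimeSpectrum.vanishingIdeal (U.2.fromSpec ⁻¹' (S : Set Y)) := rfl
  rw [h0]
  refine le_antisymm (fun f hf => ?_) (fun f hf => ?_)
  · rw [PrimeSpectrum.mem_vanishingIdeal] at hf
    refine hf _ ?_
    rw [Set.mem_preimage, U.2.fromSpec_primeIdealOf ⟨ξ, hU⟩, ← hξ]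
    exact subset_closure rfl
  · rw [PrimeSpectrum.mem_vanishingIdeal]
    intro p hp
    have h1 : ξ ⤳ U.2.fromSpec p := by
      rw [specializes_iff_mem_closure, hξ]
      exact hp
    have h2 := (primeIdealOf_le_iff U.2 ξ _ hU (fromSpec_mem U.2 p)).2 h1
    rw [primeIdealOf_fromSpec U.2 p] at h2
    exact h2 hf

include hξ in
theorem vanishingIdeal_ideal_eq_top (U : Y.affineOpens) (hU : ξ ∉ U.1) :
    (Scheme.IdealSheafData.vanishingIdeal S).ideal U = ⊤ := by
  have h0 : (Scheme.IdealSheafData.vanishingIdeal S).ideal U =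
      PrimeSpectrum.vanishingIdeal (U.2.fromSpec ⁻¹' (S : Set Y)) := rfl
  rw [h0, Ideal.eq_top_iff_one, PrimeSpectrum.mem_vanishingIdeal]
  intro p hp
  refine absurd ?_ hU
  have h1 : ξ ⤳ U.2.fromSpec p := by
    rw [specializes_iff_mem_closure, hξ]
    exact hp
  exact h1.mem_open U.1.isOpen (fromSpec_mem U.2 p)

include hξ in
/-- An ideal contained in the ideal of an irreducible closed subset and in a locally principal ideal whose support does
not contain it is contained in the product. -/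
theorem le_mul (hI : LocPrin (Scheme.IdealSheafData.vanishingIdeal S)) {B K : Y.IdealSheafData} (hB : LocPrin B)
    (hSB : ξ ∉ (B.support : Set Y)) (h1 : K ≤ Scheme.IdealSheafData.vanishingIdeal S) (h2 : K ≤ B) :
    K ≤ Scheme.IdealSheafData.vanishingIdeal S * B := by
  choose U hxU hf hg using hI.exists_common hB
  refine Scheme.IdealSheafData.le_of_iSup_eq_top U ?_ fun x => ?_
  · rw [eq_top_iff]
    intro x _
    exact Opens.mem_iSup.mpr ⟨x, hxU x⟩
  · obtain ⟨f, hf⟩ := hf x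
    obtain ⟨g, hg⟩ := hg x
    rw [Scheme.IdealSheafData.ideal_mul, Pi.mul_apply]
    by_cases hU : ξ ∈ (U x).1
    · have h3 := vanishingIdeal_ideal_eq hξ (U x) hU
      intro z hz
      have h4 := h1 (U x) hz
      have h5 := h2 (U x) hz
      rw [hg, Ideal.mem_span_singleton] at h5
      obtain ⟨w, rfl⟩ := h5
      rw [h3] at h4
      have h6 : g ∉ ((U x).2.primeIdealOf ⟨ξ, hU⟩).asIdeal := by
        intro h7
        apply hSB
        rw [mem_support_iff B (U x) ξ hU, hg, Ideal.span_singleton_le_iff_mem]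
        exact h7
      have h7 := (((U x).2.primeIdealOf ⟨ξ, hU⟩).isPrime.mem_or_mem h4).resolve_left h6
      rw [mul_comm g w]
      refine Ideal.mul_mem_mul ?_ ?_
      · rw [h3]
        exact h7
      · rw [hg]
        exact Ideal.mem_span_singleton_self g
    · rw [vanishingIdeal_ideal_eq_top hξ (U x) hU, Ideal.top_mul]
      exact h2 (U x)

end van

theorem eq_of_subset [IsIntegral Y] {S S' : Closeds Y} {ξ ξ' : Y} (hξ : closure {ξ} = (S : Set Y))
    (hξ' : closure {ξ'} = (S' : Set Y)) (hI : LocPrin (Scheme.IdealSheafData.vanishingIdeal S))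
    (hI' : LocPrin (Scheme.IdealSheafData.vanishingIdeal S')) (hg : genericPoint Y ≠ ξ') (h : ξ' ⤳ ξ) : ξ = ξ' := by
  obtain ⟨U, hU, ⟨f, hf⟩, f', hf'⟩ := hI.exists_common hI' ξ
  have hU' : ξ' ∈ U.1 := h.mem_open U.1.isOpen hU
  have hne : Nonempty U.1 := ⟨⟨ξ, hU⟩⟩
  rw [vanishingIdeal_ideal_eq hξ U hU] at hf
  rw [vanishingIdeal_ideal_eq hξ' U hU'] at hf'
  have h1 := (primeIdealOf_le_iff U.2 ξ' ξ hU' hU).2 h
  have hp := (U.2.primeIdealOf ⟨ξ, hU⟩).isPrime
  have hp' := (U.2.primeIdealOf ⟨ξ', hU'⟩).isPrime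
  have h2 : (U.2.primeIdealOf ⟨ξ, hU⟩).asIdeal ≤ (U.2.primeIdealOf ⟨ξ', hU'⟩).asIdeal := by
    have h3 : f' ∈ Ideal.span {f} := by
      rw [← hf]
      apply h1
      rw [hf']
      exact Ideal.mem_span_singleton_self _
    rw [Ideal.mem_span_singleton] at h3
    obtain ⟨v, hv⟩ := h3
    have h4 : f * v ∈ (U.2.primeIdealOf ⟨ξ', hU'⟩).asIdeal := by
      rw [← hv, hf']
      exact Ideal.mem_span_singleton_self _
    rcases hp'.mem_or_mem h4 with h5 | h5
    · rw [hf, Ideal.span_singleton_le_iff_mem]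
      exact h5
    · exfalso
      rw [hf', Ideal.mem_span_singleton] at h5
      obtain ⟨w, rfl⟩ := h5
      have h6 : f' * (1 - f * w) = 0 := by
        rw [mul_sub, mul_one, sub_eq_zero]
        exact hv.trans (by ring)
      rcases mul_eq_zero.1 h6 with h7 | h7
      · apply hg
        have h8 : (U.2.primeIdealOf ⟨ξ', hU'⟩).asIdeal = ⊥ := by
          rw [hf', h7, Ideal.span_singleton_zero]
        have h9 : genericPoint (Spec Γ(Y, U.1)) = U.2.primeIdealOf ⟨ξ', hU'⟩ := by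
          rw [genericPoint_eq_bot_of_affine]
          exact PrimeSpectrum.ext h8.symm
        have h10 := genericPoint_eq_of_isOpenImmersion U.2.fromSpec
        rw [← h10, h9]
        exact U.2.fromSpec_primeIdealOf ⟨ξ', hU'⟩
      · apply hp.ne_top
        rw [hf, Ideal.span_singleton_eq_top]
        exact IsUnit.of_mul_eq_one w (sub_eq_zero.1 h7).symm
  have h3 := (primeIdealOf_le_iff U.2 ξ ξ' hU hU').1 h2
  exact (h3.antisymm h).eq

theorem mem_support_prod {ι : Type*} (s : Finset ι) (I : ι → Y.IdealSheafData) (x : Y) :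
    x ∈ ((∏ i ∈ s, I i).support : Set Y) ↔ ∃ i ∈ s, x ∈ ((I i).support : Set Y) := by
  classical
  induction s using Finset.induction_on with
  | empty =>
    rw [Finset.prod_empty, Scheme.IdealSheafData.one_eq_top, Scheme.IdealSheafData.support_top]
    simp
  | insert a s ha ih =>
    rw [Finset.prod_insert ha, Scheme.IdealSheafData.support_mul]
    change x ∈ ((I a).support : Set Y) ∪ ((∏ i ∈ s, I i).support : Set Y) ↔ _
    rw [Set.mem_union, ih]
    simp

/-- An ideal contained in the ideals of distinct prime divisors is contained in their product. -/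
theorem le_prod [IsIntegral Y] {ι : Type*} (s : Finset ι) (S : ι → Closeds Y) (ξ : ι → Y)
    (hξ : ∀ i ∈ s, closure {ξ i} = (S i : Set Y))
    (hI : ∀ i ∈ s, LocPrin (Scheme.IdealSheafData.vanishingIdeal (S i))) (hg : ∀ i ∈ s, genericPoint Y ≠ ξ i)
    (hinj : ∀ i ∈ s, ∀ j ∈ s, i ≠ j → ξ i ≠ ξ j) {K : Y.IdealSheafData}
    (hK : ∀ i ∈ s, K ≤ Scheme.IdealSheafData.vanishingIdeal (S i)) :
    K ≤ ∏ i ∈ s, Scheme.IdealSheafData.vanishingIdeal (S i) := by
  classical
  induction s using Finset.induction_on with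
  | empty =>
    rw [Finset.prod_empty, Scheme.IdealSheafData.one_eq_top]
    exact le_top
  | insert a s ha ih =>
    rw [Finset.prod_insert ha]
    have has := Finset.mem_insert_self a s
    have hs : ∀ {i}, i ∈ s → i ∈ insert a s := fun hi => Finset.mem_insert_of_mem hi
    refine le_mul (hξ a has) (hI a has) (LocPrin.prod s fun i hi => hI i (hs hi)) ?_ (hK a has)
      (ih (fun i hi => hξ i (hs hi)) (fun i hi => hI i (hs hi)) (fun i hi => hg i (hs hi))
        (fun i hi j hj => hinj i (hs hi) j (hs hj)) fun i hi => hK i (hs hi))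
    rw [mem_support_prod]
    rintro ⟨i, hi, h1⟩
    have h2 : ξ i ⤳ ξ a := by
      rw [specializes_iff_mem_closure, hξ i (hs hi)]
      exact h1
    exact hinj a has i (hs hi) (fun h => ha (h ▸ hi))
      (eq_of_subset (hξ a has) (hξ i (hs hi)) (hI a has) (hI i (hs hi)) (hg i (hs hi)) h2)

end K367.Krull
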