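import Groth.Agent.BunMod.K319.ThetaSum
import Groth.Agent.BunMod.K319.SumFam

/-!
# Direct sums of line bundles

`sumL n L = L 0 ⊞ ... ⊞ L n`: isomorphisms, pull-back, tensor products, rank, determinant, admissibility, theta ideal.
-/

set_option autoImplicit false
universe u

open CategoryTheory CategoryTheory.Limits AlgebraicGeometry TopologicalSpace Opposite

namespace K367.SumL

open Groth.Agent.Grpsch Groth.Agent.ASBun.K791.Tens Groth.Agent.ASBun.K791.Dual K451.DetPic K319.Dsum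

section Gen

variable {Y Z : Scheme.{u}}

/-- `L 0 ⊕ ... ⊕ L n`. -/
noncomputable def sumL : (n : ℕ) → (Fin (n + 1) → Y.Modules) → Y.Modules
  | 0, L => L 0
  | n + 1, L => L 0 ⊞ sumL n fun i => L i.succ

theorem sumL_zero (L : Fin 1 → Y.Modules) : sumL 0 L = L 0 := rfl

theorem sumL_succ (n : ℕ) (L : Fin (n + 2) → Y.Modules) : sumL (n + 1) L = (L 0 ⊞ sumL n fun i => L i.succ) := rfl

theorem sumL_iso (n : ℕ) {L L' : Fin (n + 1) → Y.Modules} (e : ∀ i, Nonempty (L i ≅ L' i)) :
    Nonempty (sumL n L ≅ sumL n L') := by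
  induction n with
  | zero => exact e 0
  | succ n ih =>
    obtain ⟨i⟩ := ih fun i => e i.succ
    obtain ⟨j⟩ := e 0
    exact ⟨biprod.mapIso j i⟩

theorem sumL_map (F : Y.Modules ⥤ Z.Modules) [F.Additive] (n : ℕ) (L : Fin (n + 1) → Y.Modules) :
    Nonempty (F.obj (sumL n L) ≅ sumL n fun i => F.obj (L i)) := by
  induction n with
  | zero => exact ⟨Iso.refl _⟩
  | succ n ih =>
    obtain ⟨i⟩ := ih fun i => L i.succ
    have := preservesBinaryBiproduct_of_preservesBiproduct F (L 0) (sumL n fun i => L i.succ)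
    exact ⟨F.mapBiprod (L 0) (sumL n fun i => L i.succ) ≪≫ biprod.mapIso (Iso.refl _) i⟩

theorem sumL_pull (g : Z ⟶ Y) (n : ℕ) (L : Fin (n + 1) → Y.Modules) :
    Nonempty ((Scheme.Modules.pullback g).obj (sumL n L) ≅ sumL n fun i => (Scheme.Modules.pullback g).obj (L i)) :=
  sumL_map _ n L

theorem sumL_tensor (n : ℕ) (L : Fin (n + 1) → Y.Modules) (E : Y.Modules) :
    Nonempty (CohB1.tensorMod (sumL n L) E ≅ sumL n fun i => CohB1.tensorMod (L i) E) := by
  induction n with
  | zero => exact ⟨Iso.refl _⟩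
  | succ n ih =>
    obtain ⟨i⟩ := ih fun i => L i.succ
    exact ⟨biprodTens (L 0) (sumL n fun i => L i.succ) E ≪≫ biprod.mapIso (Iso.refl _) i⟩

theorem rank_sumL (n : ℕ) {L : Fin (n + 1) → Y.Modules} (h : ∀ i, FlatMod.IsFinLocFreeOfRank 1 (L i)) :
    FlatMod.IsFinLocFreeOfRank (n + 1) (sumL n L) := by
  induction n with
  | zero => exact h 0
  | succ n ih =>
    have h1 := Groth.Agent.Krr.H495.Rank.rank_biprod (h 0) (ih fun i => h i.succ)
    rw [add_comm 1 (n + 1)] at h1
    exact h1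

theorem det_sumL (n : ℕ) {L : Fin (n + 1) → Y.Modules} (h : ∀ i, FlatMod.IsFinLocFreeOfRank 1 (L i))
    (h' : ∀ i, PicF.IsInvertible (L i)) :
    det (n + 1) (sumL n L) (rank_sumL n h) = ∏ i, PicGrp.mk (L i) (h' i) := by
  induction n with
  | zero =>
    rw [Fin.prod_univ_one]
    exact det_one (h 0) (h' 0)
  | succ n ih =>
    have hr : FlatMod.IsFinLocFreeOfRank (1 + (n + 1)) (L 0 ⊞ sumL n fun i => L i.succ : Y.Modules) := by
      rw [add_comm]
      exact rank_sumL (n + 1) h
    have h1 := det_biprod (h 0) (rank_sumL n fun i => h i.succ) hr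
    rw [det_one (h 0) (h' 0), ih (fun i => h i.succ) fun i => h' i.succ] at h1
    rw [Fin.prod_univ_succ, ← h1]
    have key : ∀ (a b : ℕ) (e : a = b) (E : Y.Modules) (ha : FlatMod.IsFinLocFreeOfRank a E)
        (hb : FlatMod.IsFinLocFreeOfRank b E), det a E ha = det b E hb := by
      rintro a b rfl E ha hb
      rfl
    exact key _ _ (add_comm _ _) _ _ _

/-- An exterior power of the direct sum has the class of the tensor product. -/
theorem mk_of_isExtPow (n : ℕ) {L : Fin (n + 1) → Y.Modules} (h : ∀ i, FlatMod.IsFinLocFreeOfRank 1 (L i))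
    (h' : ∀ i, PicF.IsInvertible (L i)) {D : Y.Modules} (hD : ExtPow.IsExtPow (n + 1) (sumL n L) D)
    (hD' : PicF.IsInvertible D) : PicGrp.mk D hD' = ∏ i, PicGrp.mk (L i) (h' i) :=
  (mk_eq_det (rank_sumL n h) hD hD').trans (det_sumL n h h')

end Gen

section Fam

open K140.BM K319.SumFam

variable {k : Type u} [Field k] {X : Scheme.{u}} [X.Over (Spec (CommRingCat.of k))]
  [IsProper (X ↘ Spec (CommRingCat.of k))]

theorem thetaIdeal_sumL (hdim : topologicalKrullDim X ≤ 1) {N : X.Modules} (hN : FlatMod.IsFinLocFree N)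
    {T : Over (B0 k)} (n : ℕ) {L : Fin (n + 1) → (PicF.XT (st k X) T).Modules}
    (h : ∀ i, FlatMod.IsFinLocFreeOfRank 1 (L i)) :
    thetaIdeal k N T (sumL n L) = ∏ i, thetaIdeal k N T (L i) := by
  induction n with
  | zero =>
    rw [Fin.prod_univ_one]
    rfl
  | succ n ih =>
    rw [Fin.prod_univ_succ, ← ih fun i => h i.succ]
    exact K319.ThetaSum.thetaIdeal_biprod hdim hN (h 0) (rank_sumL n fun i => h i.succ)

theorem ussOK_sumL [Smooth (X ↘ Spec (CommRingCat.of k))] [GeometricallyConnected (X ↘ Spec (CommRingCat.of k))]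
    (hdim : topologicalKrullDim X = 1) {T : Over (B0 k)} (n : ℕ) {L : Fin (n + 1) → (PicF.XT (st k X) T).Modules}
    (h : ∀ i, (ModFun.PicDeg (st k X) 0).ok T (L i)) : BunMod.ussOK (st k X) (n + 1) 0 T (sumL n L) := by
  induction n with
  | zero => exact (ussOK_one_iff hdim).2 (h 0)
  | succ n ih =>
    have h1 := ussOK_biprod hdim ((ussOK_one_iff hdim).2 (h 0)) (ih fun i => h i.succ)
    rw [add_comm 1 (n + 1)] at h1
    exact h1

end Fam

end K367.SumL
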