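import Groth.Agent.BunMod.K367.Krull
import Mathlib.AlgebraicGeometry.PullbackCarrier
import Mathlib.CategoryTheory.Monoidal.Cartesian.Over

/-!
# Divisors on `W × J` and one slice

`W` integral of dimension at most one, `J` integral, `w₀` a point of `W`, `𝔞` a locally principal ideal on `W × J` whose
restriction to the slice `w₀ × J` is not zero.  Every point of the slice in the zero locus of `𝔞` is a specialization of
a point of the zero locus over the generic point of `W`.
-/

set_option autoImplicit false
universe u

open CategoryTheory CategoryTheory.Limits AlgebraicGeometry MonoidalCategory CartesianMonoidalCategory MonObj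

namespace K367.TopCore

open K367.Krull

variable {k : Type u} [Field k] {W J : Over (Spec (CommRingCat.of k))}

/-- The slice over a point of `W`. -/
noncomputable abbrev sl (w : 𝟙_ (Over (Spec (CommRingCat.of k))) ⟶ W) (J : Over (Spec (CommRingCat.of k))) :
    J ⟶ W ⊗ J := lift (toUnit J ≫ w) (𝟙 J)

theorem isPullback_sl (w : 𝟙_ (Over (Spec (CommRingCat.of k))) ⟶ W) :
    IsPullback (sl w J) (toUnit J) (fst W J) w := by
  refine ⟨⟨lift_fst _ _⟩, ⟨PullbackCone.IsLimit.mk _ (fun s => s.fst ≫ snd W J) (fun s => ?_) (fun s => ?_)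
    (fun s m h1 h2 => ?_)⟩⟩
  · apply CartesianMonoidalCategory.hom_ext
    · rw [Category.assoc, lift_fst, s.condition, ← Category.assoc]
      congr 1
      exact toUnit_unique _ _
    · rw [Category.assoc, lift_snd, Category.comp_id]
  · exact toUnit_unique _ _
  · have h3 := congrArg (fun q => q ≫ snd W J) h1
    rw [Category.assoc, lift_snd, Category.comp_id] at h3
    exact h3

/-- The slice is the fibre of the projection. -/
theorem exists_sl (w : 𝟙_ (Over (Spec (CommRingCat.of k))) ⟶ W) (y : (W ⊗ J).left)
    (hy : (fst W J).left y = w.left (IsLocalRing.closedPoint k)) : ∃ j : J.left, (sl w J).left j = y := by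
  have h1 : IsPullback (sl w J).left (toUnit J).left (fst W J).left w.left := (isPullback_sl w).map (Over.forget _)
  obtain ⟨z, hz, -⟩ := Scheme.Pullback.exists_preimage_pullback (f := (fst W J).left) (g := w.left) y
    (IsLocalRing.closedPoint k) hy
  refine ⟨h1.isoPullback.inv z, ?_⟩
  rw [← Scheme.Hom.comp_apply, h1.isoPullback_inv_fst]
  exact hz

theorem fst_genericPoint [IsIntegral W.left] [IsIntegral (W ⊗ J).left] (x : 𝟙_ (Over (Spec (CommRingCat.of k))) ⟶ J) :
    (fst W J).left (genericPoint (W ⊗ J).left) = genericPoint W.left := by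
  have h1 : (lift (𝟙 W) (toUnit W ≫ x)) ≫ fst W J = 𝟙 W := lift_fst _ _
  have h2 : (fst W J).left ((lift (𝟙 W) (toUnit W ≫ x)).left (genericPoint W.left)) = genericPoint W.left := by
    rw [← Scheme.Hom.comp_apply, ← Over.comp_left, h1]
    rfl
  have h3 : genericPoint (W ⊗ J).left ⤳ (lift (𝟙 W) (toUnit W ≫ x)).left (genericPoint W.left) :=
    genericPoint_specializes _
  have h4 := h3.map (fst W J).left.continuous
  rw [h2] at h4
  exact (h4.antisymm (genericPoint_specializes _)).eq

theorem main [IsIntegral W.left] [IsIntegral J.left] [IsIntegral (W ⊗ J).left] [IsLocallyNoetherian (W ⊗ J).left]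
    (hW : ∀ a b : W.left, a ⤳ b → a = b ∨ a = genericPoint W.left)
    (w : 𝟙_ (Over (Spec (CommRingCat.of k))) ⟶ W) (x : 𝟙_ (Over (Spec (CommRingCat.of k))) ⟶ J)
    {𝔞 : (W ⊗ J).left.IdealSheafData} (h𝔞 : LocPrin 𝔞) (hne : 𝔞.comap (sl w J).left ≠ ⊥) {l : J.left}
    (hl : l ∈ ((𝔞.comap (sl w J).left).support : Set J.left)) :
    ∃ y ∈ (𝔞.support : Set (W ⊗ J).left), y ⤳ (sl w J).left l ∧ (fst W J).left y = genericPoint W.left := by
  have hsupp : ∀ j : J.left, j ∈ ((𝔞.comap (sl w J).left).support : Set J.left) ↔
      (sl w J).left j ∈ (𝔞.support : Set (W ⊗ J).left) := by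
    intro j
    rw [Scheme.IdealSheafData.support_comap]
    rfl
  have hp : ∀ j : J.left, (fst W J).left ((sl w J).left j) = w.left (IsLocalRing.closedPoint k) := by
    intro j
    rw [← Scheme.Hom.comp_apply, ← Over.comp_left, lift_fst, Over.comp_left, Scheme.Hom.comp_apply]
    congr 1
    exact Subsingleton.elim (α := Spec (CommRingCat.of k)) _ _
  obtain ⟨y, hy, hyx, hgen⟩ := exists_generization h𝔞 ((hsupp l).1 hl)
  refine ⟨y, hy, hyx, ?_⟩
  have h1 := hyx.map (fst W J).left.continuous
  rw [hp] at h1
  rcases hW _ _ h1 with h2 | h2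
  · obtain ⟨j, rfl⟩ := exists_sl w y h2
    have h3 : (sl w J).left (genericPoint J.left) ⤳ (sl w J).left j :=
      (genericPoint_specializes j).map (sl w J).left.continuous
    rcases hgen _ h3 with h4 | h4
    · exfalso
      apply hne
      rw [← h4] at hy
      have h5 := (hsupp _).2 hy
      rw [← Scheme.IdealSheafData.support_eq_top_iff, eq_top_iff]
      intro z _
      exact (genericPoint_specializes z).mem_closed (𝔞.comap (sl w J).left).support.isClosed h5
    · have h5 := congrArg (fst W J).left h4
      rw [hp, fst_genericPoint x] at h5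
      rw [h2]
      exact h5
  · exact h2

end K367.TopCore
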